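import Mathlib.GroupTheory.SpecificGroups.Alternating
import Mathlib.GroupTheory.Perm.Fin
import Mathlib.Tactic.FinCases

/-!
# The centraliser of an involution of the alternating group of degree seven
-/

set_option autoImplicit false

namespace Cfsg.Agent.H70.SubThree

open Equiv Finset

/-- a double transposition on seven points -/
def sevenMap : Fin 7 → Fin 7 := ![1, 0, 3, 2, 4, 5, 6]

/-- the permutations commuting with it -/
def sevenComm : Finset (Equiv.Perm (Fin 7)) :=
  (Finset.univ : Finset (Equiv.Perm (Fin 7))).filter fun x => ∀ i, x (sevenMap i) = sevenMap (x i)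

theorem seven_count : (sevenComm.filter fun x => Perm.sign x = 1).card = 24 ∧
    (sevenComm.filter fun x => Perm.sign x = 1 ∧ ∀ i, x (x i) = i).card = 10 := by decide +kernel

theorem exists_seven : ∃ s : alternatingGroup (Fin 7), orderOf s = 2 ∧
    Nat.card (Subgroup.centralizer ({s} : Set (alternatingGroup (Fin 7)))) = 24 ∧
    {x : alternatingGroup (Fin 7) | x * s = s * x ∧ orderOf x = 2 ∧ x ≠ s}.ncard ≤ 8 := by
  let σ : Equiv.Perm (Fin 7) := swap 0 1 * swap 2 3
  have hσ : ∀ i, σ i = sevenMap i := by decide +kernel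
  let s : alternatingGroup (Fin 7) := ⟨σ, Perm.mem_alternatingGroup.2 (by decide +kernel)⟩
  have hs : orderOf s = 2 :=
    orderOf_eq_prime (Subtype.ext (by decide +kernel)) (fun h => absurd (congrArg Subtype.val h)
      (by decide +kernel))
  have hmem : ∀ x : alternatingGroup (Fin 7), (x : Equiv.Perm (Fin 7)) ∈ sevenComm ↔ x * s = s * x := by
    intro x
    simp only [sevenComm, Finset.mem_filter, Finset.mem_univ, true_and]
    constructor
    · intro h
      refine Subtype.ext (Equiv.ext fun i => ?_)
      show (x : Equiv.Perm (Fin 7)) (σ i) = σ ((x : Equiv.Perm (Fin 7)) i)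
      rw [hσ, hσ]
      exact h i
    · intro h i
      have h1 : (x : Equiv.Perm (Fin 7)) (σ i) = σ ((x : Equiv.Perm (Fin 7)) i) :=
        congrArg (fun y : alternatingGroup (Fin 7) => (y : Equiv.Perm (Fin 7)) i) h
      rwa [hσ, hσ] at h1
  refine ⟨s, hs, ?_, ?_⟩
  · rw [← seven_count.1, ← Nat.card_eq_finsetCard]
    refine Nat.card_congr
      { toFun := fun x => ⟨(x.1 : Equiv.Perm (Fin 7)), Finset.mem_filter.2
          ⟨(hmem _).2 (Subgroup.mem_centralizer_singleton_iff.1 x.2), x.1.2⟩⟩
        invFun := fun x => ⟨⟨x.1, (Finset.mem_filter.1 x.2).2⟩,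
          Subgroup.mem_centralizer_singleton_iff.2 ((hmem _).1 (Finset.mem_filter.1 x.2).1)⟩
        left_inv := fun x => rfl
        right_inv := fun x => rfl }
  · have h1 := seven_count.2
    set T := sevenComm.filter fun x => Perm.sign x = 1 ∧ ∀ i, x (x i) = i with hT
    have hσT : σ ∈ T ∧ (1 : Equiv.Perm (Fin 7)) ∈ T ∧ σ ≠ 1 := by
      simp only [hT, sevenComm, Finset.mem_filter, Finset.mem_univ, true_and]
      decide +kernel
    have h2 : ((T.erase σ).erase 1).card = 8 := by
      rw [Finset.card_erase_of_mem (Finset.mem_erase.2 ⟨hσT.2.2.symm, hσT.2.1⟩),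
        Finset.card_erase_of_mem hσT.1, h1]
    rw [← h2, ← Set.ncard_coe_finset]
    refine Set.ncard_le_ncard_of_injOn (fun x => (x : Equiv.Perm (Fin 7))) ?_
      (Subtype.val_injective.injOn) (Finset.finite_toSet _)
    rintro x ⟨hx, hx2, hxs⟩
    simp only [Finset.mem_coe, Finset.mem_erase]
    refine ⟨fun h => ?_, fun h => hxs (Subtype.ext h), Finset.mem_filter.2 ⟨(hmem x).2 hx, x.2, fun i => ?_⟩⟩
    · rw [show x = 1 from Subtype.ext h, orderOf_one] at hx2
      omega
    · have h3 : x * x = 1 := by
        have := pow_orderOf_eq_one x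
        rwa [hx2, sq] at this
      exact congrArg (fun y : alternatingGroup (Fin 7) => (y : Equiv.Perm (Fin 7)) i) h3

end Cfsg.Agent.H70.SubThree
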