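import Cfsg.Agent.H91.RankOneSE.Basic
import Cfsg.Agent.S0813
import Cfsg.Agent.Linear.Order
import Cfsg.Agent.H2.ChiFour.CoverFive

/-!
# Groups with a simple subgroup of index two and trivial centraliser
-/

set_option autoImplicit false
set_option linter.style.haveILetI false

namespace Cfsg.Agent.H70.SubThree

open Subgroup

theorem equiv_aut {Y X : Type*} [Group Y] [Finite Y] [Group X] [Finite X] (N : Subgroup Y) [N.Normal]
    (hidx : N.index = 2) (hC : centralizer (N : Set Y) = ⊥) (e : N ≃* X)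
    (hcard : Nat.card (MulAut X) = 2 * Nat.card X) : Nonempty (Y ≃* MulAut X) := by
  obtain ⟨ρ, hρ, -, -⟩ := H91.RankOneSE.exists_aut_embedding N e hC
  refine ⟨MulEquiv.ofBijective ρ ⟨hρ, ?_⟩⟩
  refine (Function.Injective.bijective_of_nat_card_le hρ ?_).2
  rw [hcard, ← N.card_mul_index, hidx, Nat.card_congr e.toEquiv, mul_comm]

theorem psl_congr {F K : Type*} [Field F] [Field K] (r : F ≃+* K) :
    Nonempty (Matrix.ProjectiveSpecialLinearGroup (Fin 2) F ≃*
      Matrix.ProjectiveSpecialLinearGroup (Fin 2) K) := by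
  let f : Matrix.SpecialLinearGroup (Fin 2) F ≃* Matrix.SpecialLinearGroup (Fin 2) K :=
    MulEquiv.ofBijective (Matrix.SpecialLinearGroup.map (n := Fin 2) r.toRingHom)
      ⟨fun a b e' => by
        have := congrArg (Matrix.SpecialLinearGroup.map (n := Fin 2) r.symm.toRingHom) e'
        simpa [Matrix.SpecialLinearGroup.ext_iff, Matrix.SpecialLinearGroup.map_apply_coe,
          RingHom.mapMatrix_apply] using this,
      fun b => ⟨Matrix.SpecialLinearGroup.map (n := Fin 2) r.symm.toRingHom b, by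
        ext i j
        simp [Matrix.SpecialLinearGroup.map_apply_coe, RingHom.mapMatrix_apply]⟩⟩
  refine ⟨QuotientGroup.congr _ _ f ?_⟩
  ext x
  simp only [mem_map, mem_center_iff]
  constructor
  · rintro ⟨a, ha, rfl⟩ y
    obtain ⟨b, rfl⟩ := f.surjective y
    show f b * f a = f a * f b
    rw [← map_mul, ← map_mul, ha b]
  · intro hx
    obtain ⟨a, rfl⟩ := f.surjective x
    refine ⟨a, fun b => f.injective ?_, rfl⟩
    rw [map_mul, map_mul]
    exact hx (f b)

theorem card_PSL_two_zmod (p : ℕ) [Fact p.Prime] (hp : p ≠ 2) :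
    2 * Nat.card (Matrix.ProjectiveSpecialLinearGroup (Fin 2) (ZMod p)) = p * (p ^ 2 - 1) := by
  have h1 := Linear.card_PSL_two_mul (F := ZMod p)
  rw [ZMod.card] at h1
  have h2 : Odd p := (Fact.out : p.Prime).odd_of_ne_two hp
  rw [Nat.gcd_eq_left (by obtain ⟨r, hr⟩ := h2; omega)] at h1
  exact h1

theorem card_aut_PSL (p : ℕ) [Fact p.Prime] (hp : 5 ≤ p) :
    Nat.card (MulAut (Matrix.ProjectiveSpecialLinearGroup (Fin 2) (ZMod p))) =
      2 * Nat.card (Matrix.ProjectiveSpecialLinearGroup (Fin 2) (ZMod p)) ∧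
    Nonempty (MulAut (Matrix.ProjectiveSpecialLinearGroup (Fin 2) (ZMod p)) ≃*
      GL (Fin 2) (ZMod p) ⧸ center (GL (Fin 2) (ZMod p))) := by
  have hG := S0813.result (F := ZMod p) p 1 le_rfl (by rw [ZMod.card, pow_one]) 2 le_rfl
    (fun _ => by rw [pow_one]; omega)
  rw [if_pos rfl, one_mul, one_mul] at hG
  have hc : Nat.card (GL (Fin 2) (ZMod p)) = (p ^ 2 - 1) * (p ^ 2 - p) := by
    rw [Matrix.card_GL_field, Fin.prod_univ_two, ZMod.card]
    simp
  have hz : Nat.card (center (GL (Fin 2) (ZMod p))) = p - 1 := by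
    rw [Matrix.GeneralLinearGroup.center_eq_range_scalar]
    rw [← Nat.card_congr (MonoidHom.ofInjective (f := Matrix.GeneralLinearGroup.scalar (Fin 2))
      (Units.map_injective fun a b h => Matrix.scalar_inj.1 h)).toEquiv]
    rw [Nat.card_eq_fintype_card, ZMod.card_units]
  have hP : Nat.card (GL (Fin 2) (ZMod p) ⧸ center (GL (Fin 2) (ZMod p))) = p * (p ^ 2 - 1) := by
    have h1 := card_eq_card_quotient_mul_card_subgroup (center (GL (Fin 2) (ZMod p)))
    rw [hc, hz] at h1
    have h2 : p ^ 2 - p = p * (p - 1) := by rw [Nat.mul_sub, sq, mul_one]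
    rw [h2] at h1
    apply Nat.eq_of_mul_eq_mul_right (show 0 < p - 1 by omega)
    rw [← h1]
    ring
  refine ⟨hG.trans (hP.trans (card_PSL_two_zmod p (by omega)).symm), ?_⟩
  let ρ := H56.pglToAut (F := ZMod p) (n := 2) le_rfl
  have hk : ρ.ker = center (GL (Fin 2) (ZMod p)) := H56.pglToAut_ker le_rfl
  let ρ' := (QuotientGroup.kerLift ρ).comp (QuotientGroup.quotientMulEquivOfEq hk.symm).toMonoidHom
  refine ⟨(MulEquiv.ofBijective ρ' ?_).symm⟩
  have hinj : Function.Injective ρ' :=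
    (QuotientGroup.kerLift_injective ρ).comp (QuotientGroup.quotientMulEquivOfEq hk.symm).injective
  exact hinj.bijective_of_nat_card_le (le_of_eq hG)

/-- The group is `S₅`. -/
theorem equiv_perm_five {Y : Type*} [Group Y] [Finite Y] (N : Subgroup Y) [N.Normal]
    (hidx : N.index = 2) (hC : centralizer (N : Set Y) = ⊥)
    (e : N ≃* Matrix.ProjectiveSpecialLinearGroup (Fin 2) (ZMod 5)) :
    Nonempty (Y ≃* Equiv.Perm (Fin 5)) := by
  haveI : Fact (Nat.Prime 5) := ⟨by norm_num⟩
  have hA := (card_aut_PSL 5 le_rfl).1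
  obtain ⟨f⟩ := equiv_aut N hidx hC e hA
  obtain ⟨g⟩ := H2.ChiFour.psl_equiv_alt
  have hdec : ∀ x : Equiv.Perm (Fin 5), (∀ y : Equiv.Perm (Fin 5), Equiv.Perm.sign y = 1 →
      y * x = x * y) → x = 1 := by decide +kernel
  obtain ⟨f'⟩ := equiv_aut (alternatingGroup (Fin 5)) alternatingGroup.index_eq_two (by
    rw [eq_bot_iff]
    intro x hx
    exact mem_bot.2 (hdec x fun y hy =>
      mem_centralizer_iff.1 hx y (Equiv.Perm.mem_alternatingGroup.2 hy))) g.symm hA
  exact ⟨f.trans f'.symm⟩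

end Cfsg.Agent.H70.SubThree
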