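import Cfsg.Agent.H84.HallNum.Basic
import Cfsg.Agent.Thompson.ZJ
import Cfsg.Agent.H76.CyclicSylow
import Cfsg.Agent.H63.GW.Shape

/-!
# A soluble core-free maximal subgroup of an insoluble group
-/

set_option autoImplicit false
set_option linter.style.haveILetI false
set_option linter.unusedSectionVars false

namespace Cfsg.Agent.H70.SubThree

open Subgroup
open scoped Pointwise

universe u

variable {G : Type u} [Group G] [Finite G]

/-- `A` is a soluble core-free maximal subgroup of the insoluble group `G`. -/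
structure Prim (A : Subgroup G) : Prop where
  max : IsCoatom A
  core : ∀ K : Subgroup G, K.Normal → K ≤ A → K = ⊥
  sol : Group.IsSolvable A
  insol : ¬ Group.IsSolvable G

/-- A group with a cyclic Sylow 2-subgroup is soluble. -/
theorem isSolvable_of_cyclic_sylow (P : Sylow 2 G) (hP : IsCyclic ↥(P : Subgroup G)) :
    Group.IsSolvable G :=
  H84.HallNum.isSolvable_of_hasNormalPComplement (H63.GW.hasNormalPComplement_of_cyclic P)

theorem isSolvable_of_not_four_dvd (h : ¬ 4 ∣ Nat.card G) : Group.IsSolvable G :=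
  H84.HallNum.isSolvable_of_hasNormalPComplement (H84.HallNum.hasNormalPComplement_of_not_four_dvd h)

/-- The Sylow subgroup of a normal subgroup inside a given one. -/
theorem card_inf_sylow (P : Sylow 2 G) (N : Subgroup G) [N.Normal] :
    Nat.card ↥((P : Subgroup G) ⊓ N) = 2 ^ (Nat.card N).factorization 2 := by
  haveI : Fact (Nat.Prime 2) := ⟨Nat.prime_two⟩
  obtain ⟨Q, hQ⟩ := Thompson.exists_sylow_inf_normal P N
  rw [← hQ, card_subtype, Q.card_eq_multiplicity]

/-- A two-subgroup centralises an involution of every normal subgroup of even order. -/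
theorem exists_fixed {V : Subgroup G} (hV : IsPGroup 2 V) (N : Subgroup G) [N.Normal]
    (hN : Even (Nat.card N)) :
    ∃ x ∈ N, orderOf x = 2 ∧ ∀ v ∈ V, v * x = x * v := by
  haveI : Fact (Nat.Prime 2) := ⟨Nat.prime_two⟩
  obtain ⟨P, hVP⟩ := hV.exists_le_sylow
  haveI : (N.subgroupOf (P : Subgroup G)).Normal := Subgroup.Normal.subgroupOf inferInstance _
  have hne : N.subgroupOf (P : Subgroup G) ≠ ⊥ := by
    intro h
    have h1 := card_inf_sylow P N
    rw [show (P : Subgroup G) ⊓ N = (N.subgroupOf (P : Subgroup G)).map (P : Subgroup G).subtype by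
      rw [subgroupOf_map_subtype, inf_comm], h, Subgroup.map_bot, card_bot] at h1
    have : 0 < (Nat.card N).factorization 2 :=
      Nat.Prime.factorization_pos_of_dvd Nat.prime_two Nat.card_pos.ne' (even_iff_two_dvd.1 hN)
    exact absurd h1.symm (Nat.one_lt_two_pow this.ne').ne'
  obtain ⟨z, hzN, hzc, hz⟩ := Cfsg.Agent.PGroups.exists_mem_center_orderOf_eq P.isPGroup'
    (N.subgroupOf (P : Subgroup G)) hne
  refine ⟨z, mem_subgroupOf.1 hzN, by rw [Subgroup.orderOf_coe, hz], fun v hv => ?_⟩
  exact congrArg Subtype.val (mem_center_iff.1 hzc ⟨v, hVP hv⟩)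

namespace Prim

variable {A : Subgroup G} (h : Prim A)
include h

theorem sup_eq_top {N : Subgroup G} [N.Normal] (hN : N ≠ ⊥) : A ⊔ N = ⊤ :=
  h.max.2 _ (lt_of_le_of_ne le_sup_left fun e => hN (h.core N inferInstance (e.symm ▸ le_sup_right)))

theorem normalizer_eq {K : Subgroup G} (hK : K ≠ ⊥) (hKA : K ≤ A)
    (hn : ∀ a ∈ A, ∀ k ∈ K, a * k * a⁻¹ ∈ K) : normalizer (K : Set G) = A := by
  have hle : A ≤ normalizer (K : Set G) := fun a ha => mem_normalizer_iff.2 fun k =>
    ⟨hn a ha k, fun hk => by simpa [mul_assoc] using hn a⁻¹ (A.inv_mem ha) _ hk⟩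
  by_contra hne
  haveI := normalizer_eq_top_iff.1 (h.max.2 _ (lt_of_le_of_ne hle (Ne.symm hne)))
  exact hK (h.core K inferInstance hKA)

theorem centralizer_eq {z : G} (hz : z ≠ 1) (hzA : z ∈ A) (hc : ∀ a ∈ A, a * z = z * a) :
    centralizer ({z} : Set G) = A := by
  have hle : A ≤ centralizer ({z} : Set G) := fun a ha => mem_centralizer_singleton_iff.2 (hc a ha)
  by_contra hne
  have htop := h.max.2 _ (lt_of_le_of_ne hle (Ne.symm hne))
  have hn : (zpowers z).Normal := ⟨fun x hx g => by
    obtain ⟨k, rfl⟩ := mem_zpowers_iff.1 hx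
    have hg : g * z = z * g := mem_centralizer_singleton_iff.1 (htop ▸ mem_top g)
    rw [((show Commute g z from hg).zpow_right k).eq, mul_inv_cancel_right]
    exact hx⟩
  exact zpowers_ne_bot.2 hz (h.core _ hn (zpowers_le.2 hzA))

/-- Every non-trivial normal subgroup is insoluble. -/
theorem not_solvable {N : Subgroup G} [N.Normal] (hN : N ≠ ⊥) : ¬ Group.IsSolvable N := by
  intro hs
  refine h.insol (H84.HallNum.isSolvable_of_normal N hs ?_)
  haveI := h.sol
  refine Group.isSolvable_of_surjective (f := (QuotientGroup.mk' N).comp A.subtype) ?_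
  intro q
  obtain ⟨g, rfl⟩ := QuotientGroup.mk_surjective q
  have hg : g ∈ ((A : Set G) * (N : Set G)) := by
    rw [← mul_normal, h.sup_eq_top hN]
    exact mem_top g
  obtain ⟨a, ha, n, hn, rfl⟩ := hg
  refine ⟨⟨a, ha⟩, ?_⟩
  show ((a : G) : G ⧸ N) = ((a * n : G) : G ⧸ N)
  rw [QuotientGroup.eq, inv_mul_cancel_left]
  exact hn

theorem even_card {N : Subgroup G} [N.Normal] (hN : N ≠ ⊥) : Even (Nat.card N) :=
  Nat.not_odd_iff_even.1 fun ho => h.not_solvable hN (S0205.result ho)

theorem four_dvd_card {N : Subgroup G} [N.Normal] (hN : N ≠ ⊥) : 4 ∣ Nat.card N :=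
  by_contra fun h4 => h.not_solvable hN (isSolvable_of_not_four_dvd h4)

/-- The index of a normal subgroup is read in `A`. -/
theorem card_inter_mul_index {N : Subgroup G} [N.Normal] (hN : N ≠ ⊥) :
    Nat.card ↥(N ⊓ A) * N.index = Nat.card A := by
  have h1 := (N.subgroupOf A).card_mul_index
  rw [← inf_subgroupOf_right, Nat.card_congr (subgroupOfEquivOfLe inf_le_right).toEquiv] at h1
  rw [← h1]
  congr 1
  rw [inf_subgroupOf_right, ← relIndex, ← relIndex_sup_right, h.sup_eq_top hN, relIndex_top_right]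

end Prim

end Cfsg.Agent.H70.SubThree
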