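import Cfsg.Agent.H70.SubThree.TwoGroup
import Cfsg.Agent.S3864

/-!
# Common tools for the cases
-/

set_option autoImplicit false
set_option linter.style.haveILetI false
set_option linter.unusedSectionVars false

namespace Cfsg.Agent.H70.SubThree

open Subgroup
open scoped Pointwise

universe u

variable {G : Type u} [Group G] [Finite G]

theorem fact_two (k o : ℕ) (ho : Odd o) : (2 ^ k * o).factorization 2 = k := by
  rw [Nat.factorization_mul (by positivity) (by rintro rfl; simp at ho), Finsupp.add_apply,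
    Nat.Prime.factorization_pow Nat.prime_two, Finsupp.single_eq_same,
    Nat.factorization_eq_zero_of_not_dvd (Nat.two_dvd_ne_zero.2 (Nat.odd_iff.1 ho)), add_zero]

/-- A Sylow subgroup above a Sylow subgroup of a centraliser. -/
theorem exists_sylow_above {V : Subgroup G} {z : G} {k o : ℕ} (hV : Nat.card V = 2 ^ k)
    (hVz : V ≤ centralizer ({z} : Set G)) (ho : Odd o)
    (hC : Nat.card (centralizer ({z} : Set G)) = 2 ^ k * o) :
    ∃ P : Sylow 2 G, V ≤ (P : Subgroup G) ∧ (P : Subgroup G) ⊓ centralizer ({z} : Set G) = V := by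
  haveI : Fact (Nat.Prime 2) := ⟨Nat.prime_two⟩
  obtain ⟨P, hP⟩ := (IsPGroup.of_card hV).exists_le_sylow
  exact ⟨P, hP, card_inf_centralizer P hP hVz (by rw [hC, fact_two k o ho, hV])⟩

/-- With one class of involutions every involution centralises a Sylow subgroup. -/
theorem card_sylow_dvd_centralizer (P : Sylow 2 G) {z : G} (hz : orderOf z = 2)
    (hone : ∀ u v : G, orderOf u = 2 → orderOf v = 2 → IsConj u v) :
    Nat.card (P : Subgroup G) ∣ Nat.card (centralizer ({z} : Set G)) := by
  haveI : Fact (Nat.Prime 2) := ⟨Nat.prime_two⟩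
  have hne : (⊤ : Subgroup ↥(P : Subgroup G)) ≠ ⊥ := by
    intro h
    have h1 := P.card_eq_multiplicity
    rw [← card_top (G := ↥(P : Subgroup G)), h, card_bot] at h1
    have h2 : 0 < (Nat.card G).factorization 2 :=
      Nat.prime_two.factorization_pos_of_dvd Nat.card_pos.ne' (hz ▸ orderOf_dvd_natCard z)
    exact absurd h1.symm (Nat.one_lt_two_pow h2.ne').ne'
  obtain ⟨w, -, hwc, hw⟩ := Cfsg.Agent.PGroups.exists_mem_center_orderOf_eq P.isPGroup' ⊤ hne
  obtain ⟨g, hg⟩ := isConj_iff.1 (hone (w : G) z (by rwa [Subgroup.orderOf_coe]) hz)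
  have h1 : Nat.card (P : Subgroup G) = Nat.card ((P : Subgroup G).map (MulAut.conj g).toMonoidHom) :=
    (card_map_of_injective (MulAut.conj g).injective).symm
  rw [h1]
  refine card_dvd_of_le ?_
  rintro _ ⟨a, ha, rfl⟩
  refine mem_centralizer_singleton_iff.2 ?_
  rw [← hg]
  show g * a * g⁻¹ * (g * (w : G) * g⁻¹) = g * (w : G) * g⁻¹ * (g * a * g⁻¹)
  have h2 : a * (w : G) = (w : G) * a := congrArg Subtype.val (mem_center_iff.1 hwc ⟨a, ha⟩)
  calc g * a * g⁻¹ * (g * (w : G) * g⁻¹) = g * (a * (w : G)) * g⁻¹ := by group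
    _ = g * ((w : G) * a) * g⁻¹ := by rw [h2]
    _ = _ := by group

/-- Two classes of involutions beside a subgroup of index two. -/
theorem two_classes (hsol : ¬ Group.IsSolvable G) (P : Sylow 2 G) (h8 : 8 ≤ Nat.card (P : Subgroup G))
    (hP : ∃ n : ℕ, Nonempty ((P : Subgroup G) ≃* DihedralGroup n)) (N : Subgroup G) [N.Normal]
    (hidx : N.index = 2) {s z : G} (hs : orderOf s = 2) (hsN : s ∈ N) (hz : orderOf z = 2)
    (hzN : z ∉ N) (t : G) (ht : orderOf t = 2) : IsConj s t ∨ IsConj z t := by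
  classical
  haveI : Fact (Nat.Prime 2) := ⟨Nat.prime_two⟩
  obtain ⟨n, he⟩ := hP
  obtain ⟨k, hk⟩ := IsPGroup.iff_card.1 P.isPGroup'
  have h3 : 3 ≤ k := (Nat.pow_le_pow_iff_right one_lt_two).1 (by rw [← hk]; norm_num; exact h8)
  have hn : n = 2 ^ (k - 1) := by
    obtain ⟨e⟩ := he
    have h1 := Nat.card_congr e.toEquiv
    rw [hk, DihedralGroup.nat_card, show k = k - 1 + 1 by omega, pow_succ] at h1
    omega
  subst hn
  rcases S3864.result P k h3 he with ⟨-, hno⟩ | ⟨h2, -, -⟩ | ⟨-, hc⟩
  · exact absurd hidx (hno N inferInstance)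
  · by_contra hcon
    push Not at hcon
    have hsub : ({ConjClasses.mk s, ConjClasses.mk z, ConjClasses.mk t} : Set (ConjClasses G)) ⊆
        {C : ConjClasses G | ∃ g : G, ConjClasses.mk g = C ∧ orderOf g = 2} := by
      rintro C (rfl | rfl | rfl)
      exacts [⟨s, rfl, hs⟩, ⟨z, rfl, hz⟩, ⟨t, rfl, ht⟩]
    have hsz : ¬ IsConj s z := by
      intro h
      obtain ⟨c, rfl⟩ := isConj_iff.1 h
      exact hzN (Normal.conj_mem inferInstance _ hsN c)
    have h1 := Set.ncard_le_ncard hsub (Set.toFinite _)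
    rw [← Nat.card_coe_set_eq {C : ConjClasses G | ∃ g : G, ConjClasses.mk g = C ∧ orderOf g = 2},
      Set.ncard_insert_of_notMem (by
        simp only [Set.mem_insert_iff, Set.mem_singleton_iff, ConjClasses.mk_eq_mk_iff_isConj]
        exact not_or.2 ⟨hsz, hcon.1⟩) (Set.toFinite _),
      Set.ncard_pair (by rw [Ne, ConjClasses.mk_eq_mk_iff_isConj]; exact hcon.2)] at h1
    simp only [Set.coe_setOf] at h1
    omega
  · exact absurd (H84.HallNum.isSolvable_of_hasNormalPComplement hc) hsol

/-- An involution in a dihedral Sylow subgroup centralises a four-group. -/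
theorem four_dvd_centralizer {N : Type*} [Group N] [Finite N] (Q : Sylow 2 N) {d : ℕ}
    (e : (Q : Subgroup N) ≃* DihedralGroup d) (hd : 2 ≤ d) {s : N} (hsQ : s ∈ (Q : Subgroup N))
    (hs : orderOf s = 2) {m : ℕ} (hm : Nat.card (centralizer ({s} : Set N)) = m) : 4 ∣ m := by
  haveI : Fact (Nat.Prime 2) := ⟨Nat.prime_two⟩
  set v : ↥(Q : Subgroup N) := ⟨s, hsQ⟩
  obtain ⟨k, hk⟩ := IsPGroup.iff_card.1 (Q.isPGroup'.to_subgroup (centralizer ({v} : Set ↥(Q : Subgroup N))))
  have hv : orderOf v = 2 := by rw [← Subgroup.orderOf_coe]; exact hs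
  have h2 : 2 ≤ k := by
    by_contra hlt
    have hle : Nat.card (centralizer ({v} : Set ↥(Q : Subgroup N))) ≤ 2 :=
      hk ▸ Nat.pow_le_pow_right two_pos (by omega : k ≤ 1)
    have hz : zpowers v = centralizer ({v} : Set ↥(Q : Subgroup N)) :=
      eq_of_le_of_card_ge (zpowers_le.2 (mem_centralizer_singleton_iff.2 rfl))
        (by rw [Nat.card_zpowers, hv]; exact hle)
    have hcard : 4 ≤ Nat.card ↥(Q : Subgroup N) := by
      rw [Nat.card_congr e.toEquiv, DihedralGroup.nat_card]; omega
    -- the centre is non-trivial, so `v` is central and the group has order two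
    haveI : Nontrivial ↥(Q : Subgroup N) := Finite.one_lt_card_iff_nontrivial.1 (by omega)
    haveI := Q.isPGroup'.center_nontrivial
    obtain ⟨c, hc⟩ := exists_ne (1 : center ↥(Q : Subgroup N))
    have hcv : (c : ↥(Q : Subgroup N)) ∈ zpowers v := hz ▸ mem_centralizer_singleton_iff.2
      (mem_center_iff.1 c.2 v).symm
    obtain ⟨i, hi⟩ := mem_zpowers_iff.1 hcv
    rcases Int.even_or_odd' i with ⟨j, rfl | rfl⟩
    · rw [zpow_mul, zpow_two, H39.mul_self_of_orderOf_eq_two hv, one_zpow] at hi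
      exact hc (Subtype.ext hi.symm)
    · rw [zpow_add_one, zpow_mul, zpow_two, H39.mul_self_of_orderOf_eq_two hv, one_zpow, one_mul] at hi
      have htop : centralizer ({v} : Set ↥(Q : Subgroup N)) = ⊤ := by
        rw [eq_top_iff]
        intro g _
        rw [hi]
        exact mem_centralizer_singleton_iff.2 (mem_center_iff.1 c.2 g)
      rw [htop, card_top] at hle
      omega
  rw [← hm]
  refine dvd_trans ?_ (card_dvd_of_injective
    (((Q : Subgroup N).subtype.comp (centralizer ({v} : Set ↥(Q : Subgroup N))).subtype).codRestrict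
      (centralizer ({s} : Set N)) fun g => mem_centralizer_singleton_iff.2
        (congrArg Subtype.val (mem_centralizer_singleton_iff.1 g.2) :)) ?_)
  · rw [hk, show 4 = 2 ^ 2 from rfl]
    exact pow_dvd_pow 2 h2
  · intro a b hab
    exact Subtype.ext (Subtype.ext (congrArg Subtype.val hab :))

end Cfsg.Agent.H70.SubThree
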