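import Cfsg.Agent.S0213
import Cfsg.Agent.H39.Dihedral

/-!
# The order formula with a subgroup of index two separating two classes
-/

set_option autoImplicit false
set_option linter.style.haveILetI false

namespace Cfsg.Agent.H70.SubThree

open Subgroup

variable {G : Type*} [Group G] [Finite G]

/-- An involution which is a power of `u * v` commutes with the involutions `u` and `v`. -/
theorem commute_of_mem_zpowers {u v y : G} (hu : orderOf u = 2) (hv : orderOf v = 2)
    (hy : y * y = 1) (hm : y ∈ zpowers (u * v)) : u * y = y * u ∧ v * y = y * v := by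
  obtain ⟨k, rfl⟩ := mem_zpowers_iff.1 hm
  have hinv : ((u * v) ^ k)⁻¹ = (u * v) ^ k := inv_eq_of_mul_eq_one_right hy
  have hu' : u * ((u * v) ^ k) * u⁻¹ = ((u * v) ^ k)⁻¹ := by
    rw [← conj_zpow, ← inv_zpow]
    congr 1
    rw [mul_inv_rev, H39.inv_eq_of_orderOf_eq_two hu, H39.inv_eq_of_orderOf_eq_two hv]
    simp [← mul_assoc, H39.mul_self_of_orderOf_eq_two hu]
  rw [hinv, mul_inv_eq_iff_eq_mul] at hu'
  refine ⟨hu', ?_⟩
  have huv : u * v * (u * v) ^ k = (u * v) ^ k * (u * v) := (Commute.zpow_self (u * v) k).eq.symm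
  apply mul_left_cancel (a := u)
  rw [← mul_assoc, huv, ← mul_assoc, ← mul_assoc, hu']

theorem card_le (N : Subgroup G) [N.Normal] (hidx : N.index = 2) (z s : G) (hz : orderOf z = 2)
    (hzN : z ∉ N) (hs : orderOf s = 2) (hsN : s ∈ N)
    (hin : ∀ v ∈ N, orderOf v = 2 → IsConj s v) (hout : ∀ v, v ∉ N → orderOf v = 2 → IsConj z v)
    (B : ℕ) (hB : {p : G × G | orderOf p.1 = 2 ∧ orderOf p.2 = 2 ∧ p.1 ∉ N ∧ p.2 ∈ N ∧
      p.1 * z = z * p.1 ∧ p.2 * z = z * p.2 ∧ z ∈ zpowers (p.1 * p.2)}.ncard ≤ B)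
    (D : ℕ) (hD : {v : G | v ∈ N ∧ v * s = s * v ∧ orderOf v = 2 ∧ v ≠ s}.ncard ≤ D) :
    2 * Nat.card G ≤ 2 * (Nat.card (centralizer ({s} : Set G)) * B) +
      Nat.card (centralizer ({z} : Set G)) * (Nat.card (centralizer ({s} : Set G)) * D) := by
  classical
  have hmem : ∀ {a b : G}, IsConj a b → (a ∈ N ↔ b ∈ N) := by
    intro a b hab
    obtain ⟨c, rfl⟩ := isConj_iff.1 hab
    exact ⟨fun h => Normal.conj_mem inferInstance _ h c, fun h => by
      have := Normal.conj_mem inferInstance _ h c⁻¹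
      simpa [mul_assoc] using this⟩
  have hord : ∀ {a b : G}, IsConj a b → orderOf a = 2 → orderOf b = 2 := by
    intro a b hab ha
    obtain ⟨c, rfl⟩ := isConj_iff.1 hab
    rwa [H39.orderOf_conj]
  have h := S0213.result z s hz hs (fun hc => hzN ((hmem hc).2 hsN)) (fun t ht => by
    by_cases htN : t ∈ N
    · exact Or.inr (hin t htN ht)
    · exact Or.inl (hout t htN ht))
  rw [h]
  set Cs := centralizer ({s} : Set G) with hCs
  have h1 : Nat.card {p : G × G // IsConj z p.1 ∧ IsConj s p.2 ∧ z ∈ zpowers (p.1 * p.2)} ≤ B := by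
    refine le_trans ?_ hB
    rw [← Nat.card_coe_set_eq]
    refine Nat.card_le_card_of_injective (fun p => ⟨p.1, ?_⟩) fun a b e => Subtype.ext (congrArg (fun x => x.1) e :)
    obtain ⟨⟨u, v⟩, hu, hv, hm⟩ := p
    have hc := commute_of_mem_zpowers (hord hu hz) (hord hv hs)
      (H39.mul_self_of_orderOf_eq_two hz) hm
    exact ⟨hord hu hz, hord hv hs, fun h => hzN ((hmem hu).2 h), (hmem hv).1 hsN, hc.1, hc.2, hm⟩
  have h2 : 2 * Nat.card {p : G × G // IsConj z p.1 ∧ IsConj s p.2 ∧ s ∈ zpowers (p.1 * p.2)} ≤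
      Nat.card Cs * D := by
    have hO : 2 * ((Cs : Set G) \ (N : Set G)).ncard ≤ Nat.card Cs := by
      have e1 : (Cs : Set G) \ (N : Set G) = (Cs : Set G) \ ((Cs ⊓ N : Subgroup G) : Set G) := by
        rw [coe_inf, Set.sdiff_self_inter]
      rw [e1, Set.ncard_sdiff (by simp) (Set.toFinite _), ← Nat.card_coe_set_eq,
        ← Nat.card_coe_set_eq, SetLike.coe_sort_coe, SetLike.coe_sort_coe]
      have h3 := (N.subgroupOf Cs).card_mul_index
      rw [← inf_subgroupOf_right, Nat.card_congr (subgroupOfEquivOfLe inf_le_right).toEquiv,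
        inf_comm N Cs, inf_subgroupOf_left, ← relIndex] at h3
      have h4 : N.relIndex Cs ≤ 2 := Nat.le_of_dvd two_pos (hidx ▸ relIndex_dvd_index_of_normal N Cs)
      have h5 : Nat.card Cs ≤ Nat.card ↥(Cs ⊓ N) * 2 := h3 ▸ Nat.mul_le_mul_left _ h4
      omega
    refine le_trans ?_ (Nat.mul_le_mul hO hD)
    rw [mul_assoc, ← Set.ncard_prod, ← Nat.card_coe_set_eq]
    refine Nat.mul_le_mul_left 2 (Nat.card_le_card_of_injective (fun p => ⟨p.1, ?_⟩)
      fun a b e => Subtype.ext (congrArg (fun x => x.1) e :))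
    obtain ⟨⟨u, v⟩, hu, hv, hm⟩ := p
    have hc := commute_of_mem_zpowers (hord hu hz) (hord hv hs)
      (H39.mul_self_of_orderOf_eq_two hs) hm
    refine Set.mem_prod.2 ⟨⟨mem_centralizer_singleton_iff.2 hc.1, fun h => hzN ((hmem hu).2 h)⟩,
      (hmem hv).1 hsN, hc.2, hord hv hs, ?_⟩
    intro hvs
    dsimp only at hvs hm
    rw [hvs] at hm
    obtain ⟨k, hk⟩ := mem_zpowers_iff.1 hm
    have hus : (u * s) * (u * s) = 1 := by
      rw [mul_assoc, ← mul_assoc s u s, ← hc.1, mul_assoc, H39.mul_self_of_orderOf_eq_two hs,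
        mul_one, H39.mul_self_of_orderOf_eq_two (hord hu hz)]
    rcases Int.even_or_odd' k with ⟨j, hj | hj⟩
    · rw [hj, zpow_mul, zpow_two, hus, one_zpow] at hk
      rw [← hk, orderOf_one] at hs
      omega
    · rw [hj, zpow_add_one, zpow_mul, zpow_two, hus, one_zpow, one_mul] at hk
      have : u = 1 := mul_eq_right.1 hk
      have hu2 := hord hu hz
      rw [this, orderOf_one] at hu2
      omega
  rw [mul_add, mul_left_comm 2 (Nat.card (centralizer ({z} : Set G)))]
  exact Nat.add_le_add (Nat.mul_le_mul_left 2 (Nat.mul_le_mul_left _ h1))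
    (Nat.mul_le_mul_left _ h2)

end Cfsg.Agent.H70.SubThree
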