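import Cfsg.Agent.S0809
import Cfsg.Agent.PGroups.CyclicMaximal

/-!
# The centraliser of an involution of PSL(2, q), q odd
-/

set_option autoImplicit false
set_option linter.style.haveILetI false

namespace Cfsg.Agent.H70.SubThree

open Subgroup

theorem card_map_mul {X Y : Type*} [Group X] [Group Y] [Finite X] (f : X →* Y) (H : Subgroup X)
    (h : f.ker ≤ H) : Nat.card (H.map f) * Nat.card f.ker = Nat.card H := by
  have h1 := (f.ker.subgroupOf H).card_mul_index
  rw [Nat.card_congr (subgroupOfEquivOfLe h).toEquiv] at h1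
  rw [← h1, mul_comm]
  congr 1
  rw [show f.ker.subgroupOf H = (f.comp H.subtype).ker from (f.comap_ker _), index_ker,
    MonoidHom.range_comp, range_subtype]

variable {F : Type*} [Field F] [Fintype F]

local notation "S2" => Matrix.SpecialLinearGroup (Fin 2) F
local notation "PS" => Matrix.ProjectiveSpecialLinearGroup (Fin 2) F

/-- The centraliser of an involution, and the number of other involutions in it. -/
theorem psl_involution (hodd : Odd (Fintype.card F)) (s : PS) (hs : orderOf s = 2) :
    ∃ m, (m + 1 = Fintype.card F ∨ m = Fintype.card F + 1) ∧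
      Nat.card (centralizer ({s} : Set PS)) = m ∧
      2 * {x : PS | x * s = s * x ∧ orderOf x = 2 ∧ x ≠ s}.ncard ≤ m := by
  classical
  have h2 := Linear.two_ne_zero_of_odd_card hodd
  obtain ⟨g, rfl⟩ := QuotientGroup.mk'_surjective (center S2) s
  set π : S2 →* PS := QuotientGroup.mk' _ with hπ
  have hker : π.ker = center S2 := QuotientGroup.ker_mk' _
  have hg : g * g = -1 := by
    have hsq : g * g ∈ center S2 := by
      rw [← hker, MonoidHom.mem_ker, map_mul, ← sq]
      exact orderOf_dvd_iff_pow_eq_one.mp hs.dvd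
    refine (Linear.mem_center_SL_two.mp hsq).resolve_left fun h1 => ?_
    have hc : g ∈ center S2 := Linear.mem_center_SL_two.mpr (Linear.eq_one_or_neg_one_of_sq h2 h1)
    rw [(MonoidHom.mem_ker).1 (hker.symm ▸ hc : g ∈ π.ker), orderOf_one] at hs
    omega
  obtain ⟨t0, t4⟩ := S0809.trace_of_sq_neg_one h2 hg
  have hinv : g⁻¹ = -g := inv_eq_of_mul_eq_one_right (by rw [mul_neg, hg, neg_neg])
  set K := centralizer ({g} : Set S2) with hK
  set M := normalizer (K : Set S2) with hM
  have hcK : π.ker ≤ K := by
    rw [hker]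
    exact center_le_centralizer _
  have hcM : π.ker ≤ M := hcK.trans le_normalizer
  have hz : Nat.card π.ker = 2 := by
    rw [hker]
    have e : ((center S2 : Subgroup S2) : Set S2) = {1, -1} := by
      ext x
      simp [Linear.mem_center_SL_two]
    show Nat.card (center S2 : Set S2) = 2
    rw [Nat.card_coe_set_eq, e, Set.ncard_pair (S0809.neg_one_ne_one h2).symm]
  have hC : centralizer ({(π g)} : Set PS) = M.map π := by
    ext y
    obtain ⟨x, rfl⟩ := QuotientGroup.mk'_surjective (center S2) y
    rw [mem_centralizer_singleton_iff, mem_map]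
    constructor
    · intro hx
      refine ⟨x, ?_, rfl⟩
      rw [hM, hK, Linear.mem_normalizer_centralizer_iff t4]
      have h1 : x * g * x⁻¹ * g⁻¹ ∈ π.ker := by
        rw [MonoidHom.mem_ker, map_mul, map_mul, map_mul, map_inv, map_inv, hx,
          mul_inv_cancel_right, mul_inv_cancel]
      rw [hker, Linear.mem_center_SL_two] at h1
      rcases h1 with e | e
      · exact Or.inl (mul_inv_eq_one.1 e)
      · right
        rw [mul_inv_eq_iff_eq_mul] at e
        rw [e, hinv, neg_one_mul]
    · rintro ⟨x', hx', e⟩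
      rw [hM, hK, Linear.mem_normalizer_centralizer_iff t4] at hx'
      rw [← e, ← map_mul, ← map_mul]
      rcases hx' with e' | e'
      · rw [mul_inv_eq_iff_eq_mul.1 e']
      · rw [mul_inv_eq_iff_eq_mul.1 e', hinv, neg_mul, ← neg_one_mul (g * x'), map_mul π (-1),
          show π (-1) = 1 from (MonoidHom.mem_ker).1 (hker.symm ▸ Linear.mem_center_SL_two.2 (Or.inr rfl) : (-1 : S2) ∈ π.ker),
          one_mul]
  have hM2 : Nat.card M = 2 * Nat.card K := Linear.card_normalizer_centralizer t4
  have hKc := card_map_mul π K hcK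
  have hMc := card_map_mul π M hcM
  rw [hz] at hKc hMc
  haveI : IsCyclic K := Linear.isCyclic_centralizer t4
  haveI : IsCyclic (K.map π) :=
    isCyclic_of_surjective _ (π.subgroupMap_surjective K)
  refine ⟨Nat.card K, ?_, ?_, ?_⟩
  · rcases Linear.card_centralizer_cases t4 with e | e <;> rw [hK, e]
    · left
      have := Fintype.card_pos (α := F)
      omega
    · exact Or.inr rfl
  · rw [hC]
    omega
  · have hsub : {x : PS | x * π g = π g * x ∧ orderOf x = 2 ∧ x ≠ π g} ⊆
        (M.map π : Set PS) \ (K.map π : Set PS) := by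
      rintro x ⟨hx, hx2, hxs⟩
      refine ⟨hC ▸ mem_centralizer_singleton_iff.2 hx, fun hxK => hxs ?_⟩
      exact PGroups.eq_of_sq_eq_one (inferInstance : IsCyclic (K.map π)) hxK
        (mem_map_of_mem π (mem_centralizer_singleton_iff.2 rfl)) (orderOf_dvd_iff_pow_eq_one.1 hx2.dvd)
        (orderOf_dvd_iff_pow_eq_one.1 hs.dvd) (fun h => by rw [h, orderOf_one] at hx2; omega)
        (fun h => by rw [h, orderOf_one] at hs; omega)
    have hle : (K.map π : Set PS) ⊆ (M.map π : Set PS) := map_mono le_normalizer
    refine (Nat.mul_le_mul_left 2 (Set.ncard_le_ncard hsub (Set.toFinite _))).trans ?_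
    rw [Set.ncard_sdiff hle (Set.toFinite _), ← Nat.card_coe_set_eq, ← Nat.card_coe_set_eq]
    simp only [SetLike.coe_sort_coe]
    omega

/-- The same in a group isomorphic to PSL(2, q). -/
theorem involution_of_equiv {N : Type*} [Group N] (hodd : Odd (Fintype.card F)) (e : N ≃* PS)
    (s : N) (hs : orderOf s = 2) :
    ∃ m, (m + 1 = Fintype.card F ∨ m = Fintype.card F + 1) ∧
      Nat.card (centralizer ({s} : Set N)) = m ∧
      2 * {x : N | x * s = s * x ∧ orderOf x = 2 ∧ x ≠ s}.ncard ≤ m := by
  obtain ⟨m, h1, h2, h3⟩ := psl_involution hodd (e s) (by rwa [e.orderOf_eq])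
  refine ⟨m, h1, ?_, le_trans (le_of_eq ?_) h3⟩
  · rw [← h2]
    refine Nat.card_congr (e.toEquiv.subtypeEquiv fun x => ?_)
    simp only [mem_centralizer_singleton_iff, MulEquiv.toEquiv_eq_coe, MulEquiv.coe_toEquiv]
    rw [← map_mul, ← map_mul, e.injective.eq_iff]
  · congr 1
    rw [← Set.ncard_image_of_injective _ e.injective]
    congr 1
    ext y
    obtain ⟨x, rfl⟩ := e.surjective y
    simp only [Set.mem_image, Set.mem_ofPred_eq, e.injective.eq_iff, exists_eq_right, e.orderOf_eq,
      ← map_mul, ne_eq]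

end Cfsg.Agent.H70.SubThree
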