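import Cfsg.Agent.H70.SubThree.TwoGroup
import Cfsg.Agent.H70.SubThree.PSLTwo
import Cfsg.Agent.H70.SubThree.IndexTwo
import Cfsg.Agent.H39.SemiDihedralMaximal
import Cfsg.Agent.Linear.Dickson.Orders

/-!
# An involution acting on SL(2, q) with centraliser of order four
-/

set_option autoImplicit false
set_option linter.style.haveILetI false
set_option linter.unusedSectionVars false

namespace Cfsg.Agent.H70.SubThree

open Subgroup

universe u

variable {Y : Type u} [Group Y] [Finite Y]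

theorem central_of_unique {L : Subgroup Y} [L.Normal] {z : Y} (hzL : z ∈ L) (hz : orderOf z = 2)
    (huniq : ∀ l ∈ L, orderOf l = 2 → l = z) (g : Y) : g * z = z * g :=
  mul_inv_eq_iff_eq_mul.1
    (huniq _ (Normal.conj_mem inferInstance z hzL g) (by rw [H39.orderOf_conj, hz]))

/-- An involution lying in the centre is the involution of the centre of a semidihedral group. -/
theorem central_invol {S : Type*} [Group S] {m : ℕ} {x y : S} (h : H39.SDGen m x y) {g : S}
    (hg : orderOf g = 2) (hc : ∀ a, a * g = g * a) : g = x ^ (4 * 2 ^ m : ℤ) := by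
  rcases h.mem_ord_two g hg with e | ⟨k, rfl⟩
  · exact e
  · exfalso
    have e := mul_inv_eq_iff_eq_mul.mpr (hc (x ^ (1 : ℤ)))
    rw [h.conj_out, h.out_eq_out] at e
    obtain ⟨c, hc'⟩ := e
    have : (1 : ℤ) = 2 * (2 * 2 ^ m * c + 2 ^ m) := by linarith
    omega

theorem outer_conj (T : Sylow 2 Y) (hT : Cfsg.IsQuasiDihedral ↥(T : Subgroup Y)) (L : Subgroup Y)
    [L.Normal] (hidx : L.index = 2) (hns : ¬ Group.IsSolvable L) (z : Y) (hzL : z ∈ L)
    (hz : orderOf z = 2) (huniq : ∀ l ∈ L, orderOf l = 2 → l = z) (u : Y) (hu : orderOf u = 2)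
    (huT : u ∈ (T : Subgroup Y)) (huL : u ∉ L) (w : Y) (hwL : w ∉ L)
    (hw : w * w = 1 ∨ w * w = z) : IsConj u w := by
  haveI : Fact (Nat.Prime 2) := ⟨Nat.prime_two⟩
  obtain ⟨m, x, y, h⟩ := H39.exists_sdGen hT
  have hsq : ∀ g : Y, g * g ∈ L := fun g => mul_self_mem_of_index_two hidx g
  have hw4 : w ^ 4 = 1 := by
    rw [show 4 = 2 * 2 from rfl, pow_mul, sq w]
    rcases hw with e | e <;> rw [e]
    · exact one_pow 2
    · rw [← hz, pow_orderOf_eq_one]
  obtain ⟨Q, hQ⟩ := (show IsPGroup 2 ↥(zpowers w) from fun g => ⟨2, Subtype.ext (by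
    obtain ⟨k, hk⟩ := mem_zpowers_iff.1 g.2
    rw [SubmonoidClass.coe_pow, ← hk, OneMemClass.coe_one, ← zpow_natCast, ← zpow_mul,
      mul_comm, zpow_mul, zpow_natCast]
    norm_num [hw4])⟩).exists_le_sylow
  obtain ⟨a, ha⟩ := MulAction.exists_smul_eq Y Q T
  have hw' : a * w * a⁻¹ ∈ (T : Subgroup Y) := by
    have := smul_mem_pointwise_smul w (MulAut.conj a) (Q : Subgroup Y) (hQ (mem_zpowers w))
    rw [MulAut.smul_def, MulAut.conj_apply] at this
    rw [← ha]
    exact this
  refine IsConj.trans ?_ (isConj_iff.2 ⟨a, rfl⟩ : IsConj w (a * w * a⁻¹)).symm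
  have hw'L : a * w * a⁻¹ ∉ L := fun hh => hwL (by
    simpa [mul_assoc] using Normal.conj_mem ‹L.Normal› _ hh a⁻¹)
  set v : ↥(T : Subgroup Y) := ⟨_, hw'⟩ with hv
  have hv4 : v ^ 4 = 1 := Subtype.ext (by
    show (a * w * a⁻¹) ^ 4 = 1
    rw [conj_pow, hw4, mul_one, mul_inv_cancel])
  have hxe : ∀ j : ℤ, ((x ^ (2 * j) : ↥(T : Subgroup Y)) : Y) ∈ L := fun j => by
    rw [mul_comm, zpow_mul, zpow_two, Subgroup.coe_mul]
    exact hsq _
  obtain ⟨k, hk⟩ : ∃ k : ℤ, (⟨u, huT⟩ : ↥(T : Subgroup Y)) = x ^ (2 * k) * y := by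
    refine ((h.mem_ord_two _ (by rwa [← Subgroup.orderOf_coe])).resolve_left fun e => huL ?_)
    rw [show u = ((x ^ (4 * 2 ^ m : ℤ) : ↥(T : Subgroup Y)) : Y) from congrArg Subtype.val e,
      show (4 * 2 ^ m : ℤ) = 2 * (2 * 2 ^ m) by ring]
    exact hxe _
  have hyp : ∀ i : ℤ, IsConj (x ^ (2 * i) * y) y := fun i => by
    simpa using h.isConj_out_of_dvd 0 i
  rcases h.cases_elem v with ⟨i, hi⟩ | ⟨i, hi⟩
  · exfalso
    rcases Int.even_or_odd' i with ⟨j, rfl | rfl⟩
    · exact hw'L (show (v : Y) ∈ L by rw [hi]; exact hxe j)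
    · rw [hi, ← zpow_natCast, ← zpow_mul, ← zpow_zero x, h.zpow_eq] at hv4
      obtain ⟨c, hc⟩ := hv4
      push_cast at hc
      have : (1 : ℤ) = 2 * (2 ^ m * c - j) := by linarith
      omega
  rcases Int.even_or_odd' i with ⟨j, rfl | rfl⟩
  · have hc : IsConj (⟨u, huT⟩ : ↥(T : Subgroup Y)) v := by
      rw [hk, hi]
      exact (hyp k).trans (hyp j).symm
    exact MonoidHom.map_isConj (T : Subgroup Y).subtype hc
  · exfalso
    have hprod : (v : Y) * u ∈ L := by
      rw [mul_mem_iff_of_index_two hidx]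
      exact iff_of_false hw'L huL
    rw [show (v : Y) * u = ((v * ⟨u, huT⟩ : ↥(T : Subgroup Y)) : Y) from rfl, hi, hk,
      h.out_mul_out] at hprod
    have hx : ((x : ↥(T : Subgroup Y)) : Y) ∈ L := by
      have e : x = x ^ (2 * j + 1 + 2 * k * (4 * 2 ^ m - 1)) *
          (x ^ (2 * (-j - k * (4 * 2 ^ m - 1)))) := by
        rw [← zpow_add]
        conv_lhs => rw [← zpow_one x]
        congr 1
        ring
      rw [e, Subgroup.coe_mul]
      exact mul_mem hprod (hxe _)
    obtain ⟨R, hR⟩ := Thompson.exists_sylow_inf_normal T L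
    apply hns
    have heq : L.subgroupOf (T : Subgroup Y) = zpowers x := by
      refine ((eq_of_le_of_card_ge (zpowers_le.2 (mem_subgroupOf.2 hx)) ?_)).symm
      have h1 := (L.subgroupOf (T : Subgroup Y)).card_mul_index
      have h2 := (zpowers x).card_mul_index
      have hne : (L.subgroupOf (T : Subgroup Y)).index ≠ 1 := fun e1 => huL
        ((index_eq_one.1 e1 ▸ mem_top (⟨u, huT⟩ : ↥(T : Subgroup Y)) :
          (⟨u, huT⟩ : ↥(T : Subgroup Y)) ∈ L.subgroupOf (T : Subgroup Y)))
      have hpos : (L.subgroupOf (T : Subgroup Y)).index ≠ 0 := index_ne_zero_of_finite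
      rw [h.index_zpowers] at h2
      nlinarith [show 2 ≤ (L.subgroupOf (T : Subgroup Y)).index by omega]
    refine isSolvable_of_cyclic_sylow R ?_
    have hc : IsCyclic ↥((R : Subgroup L).map L.subtype) := by
      rw [hR, inf_comm, ← subgroupOf_map_subtype, heq]
      exact isCyclic_of_surjective _ ((T : Subgroup Y).subtype.subgroupMap_surjective (zpowers x))
    exact ((R : Subgroup L).equivMapOfInjective L.subtype Subtype.val_injective).isCyclic.2 hc

/-- An involution outside SL(2, q) with centraliser of order at most four forces q = 3. -/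
theorem card_field_eq_three (T : Sylow 2 Y) (hT : Cfsg.IsQuasiDihedral ↥(T : Subgroup Y))
    (L : Subgroup Y) [L.Normal] (hidx : L.index = 2) {F : Type} [Field F] [Fintype F]
    (hodd : Odd (Fintype.card F)) (e : L ≃* Matrix.SpecialLinearGroup (Fin 2) F) (u : Y)
    (hu : orderOf u = 2) (huT : u ∈ (T : Subgroup Y)) (huL : u ∉ L)
    (hcu : Nat.card (centralizer ({u} : Set Y)) ≤ 4) : Fintype.card F = 3 := by
  classical
  haveI : Fact (Nat.Prime 2) := ⟨Nat.prime_two⟩
  by_contra hne
  have h5 : 5 ≤ Fintype.card F := by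
    have := Fintype.one_lt_card (α := F)
    obtain ⟨r, hr⟩ := hodd
    omega
  have h2 := Linear.two_ne_zero_of_odd_card hodd
  -- the central involution
  obtain ⟨z, hzL, hz, huniq⟩ : ∃ z : Y, z ∈ L ∧ orderOf z = 2 ∧
      ∀ l ∈ L, orderOf l = 2 → l = z := by
    refine ⟨e.symm (-1), (e.symm (-1)).2, ?_, fun l hl hl2 => ?_⟩
    · rw [Subgroup.orderOf_coe, e.symm.orderOf_eq]
      exact H39.orderOf_eq_two_of_mul_self (by rw [neg_mul, mul_neg, neg_neg, mul_one])
        (S0809.neg_one_ne_one h2)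
    · have hl' : orderOf (e ⟨l, hl⟩) = 2 := by rwa [e.orderOf_eq, ← Subgroup.orderOf_coe]
      rcases Linear.eq_one_or_neg_one_of_sq h2 (H39.mul_self_of_orderOf_eq_two hl') with h | h
      · rw [h, orderOf_one] at hl'
        omega
      · rw [← h, e.symm_apply_apply]
  have hzc := central_of_unique hzL hz huniq
  have hns : ¬ Group.IsSolvable L := fun hs => by
    refine Linear.Dickson.not_isSolvable_PSL (K := F) (by rw [Nat.card_eq_fintype_card]; omega) ?_
    haveI := hs
    exact Group.isSolvable_of_surjective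
      (f := (QuotientGroup.mk' _).comp e.toMonoidHom)
      ((QuotientGroup.mk'_surjective _).comp e.surjective)
  have hout := outer_conj T hT L hidx hns z hzL hz huniq u hu huT huL
  set Z := zpowers z with hZ
  haveI hZn : Z.Normal := ⟨fun a ha g => by
    obtain ⟨k, rfl⟩ := mem_zpowers_iff.1 ha
    rw [((show Commute g z from hzc g).zpow_right k).eq, mul_inv_cancel_right]
    exact ha⟩
  set π := QuotientGroup.mk' Z with hπ
  have hπs : Function.Surjective π := QuotientGroup.mk'_surjective Z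
  have hker : π.ker = Z := QuotientGroup.ker_mk' _
  have hZ2 : ∀ a ∈ Z, a = 1 ∨ a = z := fun a ha => by
    obtain ⟨k, rfl⟩ := mem_zpowers_iff.1 ha
    rcases Int.even_or_odd' k with ⟨j, rfl | rfl⟩
    · left
      rw [zpow_mul, zpow_two, H39.mul_self_of_orderOf_eq_two hz, one_zpow]
    · right
      rw [zpow_add_one, zpow_mul, zpow_two, H39.mul_self_of_orderOf_eq_two hz, one_zpow, one_mul]
  have hZc : Nat.card Z = 2 := by rw [Nat.card_zpowers, hz]
  have hZL : π.ker ≤ L := hker.le.trans (zpowers_le.2 hzL)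
  set N := L.map π with hN
  haveI : N.Normal := Normal.map ‹_› _ hπs
  have hNidx : N.index = 2 := by rw [hN, index_map_eq L hπs hZL, hidx]
  -- the quotient of `L` is PSL(2, q)
  obtain ⟨eN⟩ : Nonempty (N ≃* Matrix.ProjectiveSpecialLinearGroup (Fin 2) F) := by
    let f1 := π.subgroupMap L
    let f2 : L →* Matrix.ProjectiveSpecialLinearGroup (Fin 2) F :=
      (QuotientGroup.mk' _).comp e.toMonoidHom
    have hk : f1.ker = f2.ker := by
      ext l
      rw [MonoidHom.mem_ker, MonoidHom.mem_ker]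
      show f1 l = 1 ↔ QuotientGroup.mk' _ (e l) = 1
      rw [← MonoidHom.mem_ker, ← MonoidHom.mem_ker, QuotientGroup.ker_mk',
        Linear.mem_center_SL_two]
      constructor
      · intro hl
        have hl' : (l : Y) ∈ Z := hker ▸ (congrArg Subtype.val hl :)
        rcases hZ2 _ hl' with e1 | e1
        · left
          rw [show l = 1 from Subtype.ext e1, map_one]
        · rcases Linear.eq_one_or_neg_one_of_sq h2 (g := e l) (by
            rw [← map_mul, show l * l = 1 from Subtype.ext (by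
              rw [Subgroup.coe_mul, e1, H39.mul_self_of_orderOf_eq_two hz]; rfl), map_one]) with h | h
          · exact Or.inl h
          · exact Or.inr h
      · intro hl
        refine Subtype.ext ?_
        show π (l : Y) = 1
        rw [← MonoidHom.mem_ker, hker]
        rcases hl with e1 | e1
        · rw [(MulEquiv.map_eq_one_iff e).1 e1]
          exact one_mem Z
        · have : orderOf (l : Y) = 2 := by
            rw [Subgroup.orderOf_coe, ← e.orderOf_eq, e1]
            exact H39.orderOf_eq_two_of_mul_self (by rw [neg_mul, mul_neg, neg_neg, mul_one])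
              (S0809.neg_one_ne_one h2)
          rw [huniq _ l.2 this]
          exact mem_zpowers z
    exact ⟨((QuotientGroup.quotientKerEquivOfSurjective f1 (π.subgroupMap_surjective L)).symm.trans
      (QuotientGroup.quotientMulEquivOfEq hk)).trans (QuotientGroup.quotientKerEquivOfSurjective f2
        ((QuotientGroup.mk'_surjective _).comp e.surjective))⟩
  have hmemN : ∀ w : Y, π w ∈ N ↔ w ∈ L := fun w => by
    rw [hN, ← mem_comap, comap_map_eq_self hZL]
  have huN : π u ∉ N := fun h => huL ((hmemN u).1 h)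
  have huord : orderOf (π u) = 2 := H39.orderOf_eq_two_of_mul_self
    (by rw [← map_mul, H39.mul_self_of_orderOf_eq_two hu, map_one]) (fun h => huN (h ▸ one_mem N))
  -- involutions of `N`
  obtain ⟨s, hsN, hs⟩ : ∃ s ∈ N, orderOf s = 2 := by
    have hev : 2 ∣ Nat.card N := by
      by_contra h
      have : Odd (Nat.card N) := Nat.odd_iff.2 (by omega)
      apply Linear.Dickson.not_isSolvable_PSL (K := F) (by rw [Nat.card_eq_fintype_card]; omega)
      haveI := S0205.result this
      exact Group.isSolvable_of_surjective (f := eN.toMonoidHom) eN.surjective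
    obtain ⟨s, hs⟩ := exists_prime_orderOf_dvd_card' (G := N) 2 hev
    exact ⟨s, s.2, by rw [Subgroup.orderOf_coe, hs]⟩
  obtain ⟨m, hm, hCm, hD⟩ := involution_of_equiv hodd eN ⟨s, hsN⟩ (by rwa [← Subgroup.orderOf_coe])
  have hin : ∀ v ∈ N, orderOf v = 2 → IsConj s v := fun v hv hv2 => by
    set pr := QuotientGroup.mk' (center (Matrix.SpecialLinearGroup (Fin 2) F)) with hpr
    have hA : Nat.card ((zpowers (eN ⟨s, hsN⟩)).comap pr) = 4 := by
      have h1 := card_map_mul pr ((zpowers (eN ⟨s, hsN⟩)).comap pr) (fun a ha => by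
        rw [mem_comap, (MonoidHom.mem_ker).1 ha]; exact one_mem _)
      have hc2 : Nat.card pr.ker = 2 := by
        have e2 : (pr.ker : Set (Matrix.SpecialLinearGroup (Fin 2) F)) = {1, -1} := by
          ext a
          simp [pr, Linear.mem_center_SL_two]
        rw [← SetLike.coe_sort_coe, Nat.card_coe_set_eq, e2,
          Set.ncard_pair (S0809.neg_one_ne_one h2).symm]
      rw [map_comap_eq_self_of_surjective (QuotientGroup.mk'_surjective _), hc2, Nat.card_zpowers,
        eN.orderOf_eq, ← Subgroup.orderOf_coe, hs] at h1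
      exact h1.symm
    have hc := (S0809.main hodd _ hA).2.2.2
      (eN ⟨s, hsN⟩) (eN ⟨v, hv⟩) (by rwa [eN.orderOf_eq, ← Subgroup.orderOf_coe])
      (by rwa [eN.orderOf_eq, ← Subgroup.orderOf_coe])
    have := MonoidHom.map_isConj (N.subtype.comp eN.symm.toMonoidHom) hc
    simpa using this
  have houtc : ∀ v, v ∉ N → orderOf v = 2 → IsConj (π u) v := by
    intro v hvN hv2
    obtain ⟨w, rfl⟩ := hπs v
    have hww : w * w ∈ Z := by
      rw [← hker, MonoidHom.mem_ker, map_mul, H39.mul_self_of_orderOf_eq_two hv2]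
    exact MonoidHom.map_isConj π (hout w (fun h => hvN ((hmemN w).2 h)) (hZ2 _ hww))
  -- the centraliser of the outer involution
  have hC4 : Nat.card (centralizer ({π u} : Set (Y ⧸ Z))) ≤ 4 := by
    set M := (centralizer ({π u} : Set (Y ⧸ Z))).comap π with hM
    have hMc := card_map_mul π M (fun a ha => by
      rw [hM, mem_comap, (MonoidHom.mem_ker).1 ha]; exact one_mem _)
    rw [hker, hZc, show M.map π = _ from map_comap_eq_self_of_surjective hπs _] at hMc
    have hmem : ∀ h ∈ M, h * u * h⁻¹ = u ∨ h * u * h⁻¹ = z * u := by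
      intro h hh
      have h1 : h * u * h⁻¹ * u⁻¹ ∈ Z := by
        rw [hM, mem_comap, mem_centralizer_singleton_iff] at hh
        rw [← hker, MonoidHom.mem_ker, map_mul, map_mul, map_mul, map_inv, map_inv, hh,
          mul_inv_cancel_right, mul_inv_cancel]
      rcases hZ2 _ h1 with e1 | e1
      · exact Or.inl (mul_inv_eq_one.1 e1)
      · exact Or.inr (mul_inv_eq_iff_eq_mul.1 e1)
    have hle : Nat.card M ≤ 8 := by
      set C := centralizer ({u} : Set Y)
      have hd : ((M : Set Y) \ (C : Set Y)).ncard ≤ Nat.card C := by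
        rcases ((M : Set Y) \ (C : Set Y)).eq_empty_or_nonempty with h | ⟨h0, h0M, h0C⟩
        · rw [h, Set.ncard_empty]; exact Nat.zero_le _
        · have h0z := (hmem h0 h0M).resolve_left fun e1 =>
            h0C (mem_centralizer_singleton_iff.2 (mul_inv_eq_iff_eq_mul.1 e1))
          rw [← SetLike.coe_sort_coe, Nat.card_coe_set_eq]
          refine Set.ncard_le_ncard_of_injOn (fun h => h0⁻¹ * h) ?_
            (mul_right_injective h0⁻¹).injOn (Set.toFinite _)
          rintro h ⟨hhM, hhC⟩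
          have hz' := (hmem h hhM).resolve_left fun e1 =>
            hhC (mem_centralizer_singleton_iff.2 (mul_inv_eq_iff_eq_mul.1 e1))
          refine mem_centralizer_singleton_iff.2 (mul_inv_eq_iff_eq_mul.1 ?_)
          calc h0⁻¹ * h * u * (h0⁻¹ * h)⁻¹ = h0⁻¹ * (h * u * h⁻¹) * h0 := by group
            _ = h0⁻¹ * (h0 * u * h0⁻¹) * h0 := by rw [hz', h0z]
            _ = u := by group
      have h1 := Set.ncard_le_ncard_sdiff_add_ncard (M : Set Y) (C : Set Y) (Set.toFinite _)
      rw [← Nat.card_coe_set_eq (M : Set Y), ← Nat.card_coe_set_eq (C : Set Y), SetLike.coe_sort_coe,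
        SetLike.coe_sort_coe] at h1
      omega
    omega
  set Cu := centralizer ({π u} : Set (Y ⧸ Z)) with hCu
  have hin1 : Nat.card ↥(Cu ⊓ N) ≤ 2 := by
    have hlt : Cu ⊓ N < Cu := lt_of_le_of_ne inf_le_left fun h =>
      huN ((inf_eq_left.1 h) (mem_centralizer_singleton_iff.2 rfl))
    have hd := card_dvd_of_le (inf_le_left (a := Cu) (b := N))
    have hne' : Nat.card ↥(Cu ⊓ N) ≠ Nat.card Cu := fun h =>
      hlt.ne (eq_of_le_of_card_ge inf_le_left h.ge)
    obtain ⟨c, hc⟩ := hd
    have hpos : 0 < Nat.card ↥(Cu ⊓ N) := Nat.card_pos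
    rcases c with _ | _ | c
    · rw [mul_zero] at hc; exact absurd hc Nat.card_pos.ne'
    · rw [zero_add, mul_one] at hc; exact absurd hc.symm hne'
    · nlinarith
  have hB : {p : (Y ⧸ Z) × (Y ⧸ Z) | orderOf p.1 = 2 ∧ orderOf p.2 = 2 ∧ p.1 ∉ N ∧ p.2 ∈ N ∧
      p.1 * π u = π u * p.1 ∧ p.2 * π u = π u * p.2 ∧ π u ∈ zpowers (p.1 * p.2)}.ncard ≤ 3 := by
    refine (Set.ncard_le_ncard (t := ((Cu : Set (Y ⧸ Z)) \ {1}) ×ˢ
      (((Cu ⊓ N : Subgroup (Y ⧸ Z)) : Set (Y ⧸ Z)) \ {1})) ?_ (Set.toFinite _)).trans ?_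
    · rintro ⟨a, b⟩ ⟨ha, hb, -, hbN, hac, hbc, -⟩
      exact ⟨⟨mem_centralizer_singleton_iff.2 hac, fun h => by
          rw [show a = 1 from h, orderOf_one] at ha; omega⟩,
        ⟨mem_centralizer_singleton_iff.2 hbc, hbN⟩, fun h => by
          rw [show b = 1 from h, orderOf_one] at hb; omega⟩
    · rw [Set.ncard_prod, Set.ncard_sdiff_singleton_of_mem (one_mem Cu),
        Set.ncard_sdiff_singleton_of_mem (one_mem (Cu ⊓ N)), ← Nat.card_coe_set_eq,
        ← Nat.card_coe_set_eq, SetLike.coe_sort_coe, SetLike.coe_sort_coe]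
      calc (Nat.card Cu - 1) * (Nat.card ↥(Cu ⊓ N) - 1) ≤ 3 * 1 :=
            Nat.mul_le_mul (by omega) (by omega)
        _ = 3 := rfl
  have hD' : {v : Y ⧸ Z | v ∈ N ∧ v * s = s * v ∧ orderOf v = 2 ∧ v ≠ s}.ncard ≤ m / 2 := by
    have e1 : {v : Y ⧸ Z | v ∈ N ∧ v * s = s * v ∧ orderOf v = 2 ∧ v ≠ s} =
        N.subtype '' {x : N | x * ⟨s, hsN⟩ = ⟨s, hsN⟩ * x ∧ orderOf x = 2 ∧ x ≠ ⟨s, hsN⟩} := by
      ext v
      constructor
      · rintro ⟨hvN, h1, h2', h3⟩
        exact ⟨⟨v, hvN⟩, ⟨Subtype.ext h1, by rwa [← Subgroup.orderOf_coe],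
          fun h => h3 (congrArg Subtype.val h)⟩, rfl⟩
      · rintro ⟨x, ⟨h1, h2', h3⟩, rfl⟩
        exact ⟨x.2, congrArg Subtype.val h1, by rwa [N.subtype_apply, Subgroup.orderOf_coe],
          fun h => h3 (Subtype.ext h)⟩
    rw [e1, Set.ncard_image_of_injective _ N.subtype_injective]
    omega
  have hCs : Nat.card (centralizer ({s} : Set (Y ⧸ Z))) ≤ 2 * m := by
    set Cs := centralizer ({s} : Set (Y ⧸ Z))
    have h3 := (N.subgroupOf Cs).card_mul_index
    have h4 : N.relIndex Cs ≤ 2 :=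
      Nat.le_of_dvd two_pos (hNidx ▸ relIndex_dvd_index_of_normal N Cs)
    have h5 : Nat.card (N.subgroupOf Cs) = m := by
      rw [← hCm]
      exact Nat.card_congr
        { toFun := fun c => ⟨⟨c.1.1, c.2⟩, mem_centralizer_singleton_iff.2
            (Subtype.ext (mem_centralizer_singleton_iff.1 c.1.2 :))⟩
          invFun := fun c => ⟨⟨c.1.1, mem_centralizer_singleton_iff.2
            (congrArg Subtype.val (mem_centralizer_singleton_iff.1 c.2) :)⟩, c.1.2⟩
          left_inv := fun c => rfl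
          right_inv := fun c => rfl }
    rw [← h3, h5, mul_comm]
    exact Nat.mul_le_mul_right _ h4
  have key := card_le N hNidx (π u) s huord huN hs hsN hin houtc 3 hB (m / 2) hD'
  have hcard : Nat.card (Y ⧸ Z) = Nat.card N * 2 := by rw [← hNidx, card_mul_index]
  have hPSL := Linear.card_PSL_two_mul (F := F)
  rw [show Nat.gcd 2 (Fintype.card F - 1) = 2 from
    Nat.gcd_eq_left (by obtain ⟨r, hr⟩ := hodd; omega)] at hPSL
  rw [Nat.card_congr eN.toEquiv] at hcard
  have hb : 2 * Nat.card (Y ⧸ Z) ≤ 2 * (2 * m * 3) + 4 * (2 * m * (m / 2)) := key.trans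
    (Nat.add_le_add (Nat.mul_le_mul_left 2 (Nat.mul_le_mul_right 3 hCs))
      (Nat.mul_le_mul hC4 (Nat.mul_le_mul_right _ hCs)))
  have hmm : 2 * m * (m / 2) ≤ m * m := by
    calc 2 * m * (m / 2) = m * (2 * (m / 2)) := by ring
      _ ≤ m * m := Nat.mul_le_mul_left _ (Nat.mul_div_le m 2)
  have hm' : m ≤ Fintype.card F + 1 := by omega
  generalize Fintype.card F = q at *
  have hn1 : Nat.card (Matrix.ProjectiveSpecialLinearGroup (Fin 2) F) ≤ 3 * m + m * m := by
    omega
  obtain ⟨r, rfl⟩ : ∃ r, q = r + 5 := ⟨q - 5, by omega⟩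
  rw [show (r + 5) ^ 2 - 1 = (r + 4) * (r + 6) by
    rw [show (r + 5) ^ 2 = (r + 4) * (r + 6) + 1 by ring, Nat.add_sub_cancel]] at hPSL
  have hm2 : 3 * m + m * m ≤ (r + 6) * (r + 9) := by
    calc 3 * m + m * m = m * (m + 3) := by ring
      _ ≤ (r + 6) * (r + 9) := Nat.mul_le_mul (by omega) (by omega)
  nlinarith

end Cfsg.Agent.H70.SubThree
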