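import Cfsg.Agent.H70.SubThree.TwoGroup
import Cfsg.Agent.H70.SubThree.SDCount
import Cfsg.Agent.S0016

/-!
# Index-two subgroups of dihedral and semidihedral groups avoiding an involution
-/

set_option autoImplicit false
set_option linter.style.haveILetI false

namespace Cfsg.Agent.H70.SubThree

open Subgroup

universe u

/-- A semidihedral group: an index-two subgroup avoiding a non-central involution is cyclic or
generalised quaternion. -/
theorem sd_index_two {S : Type u} [Group S] [Finite S] (hS : Cfsg.IsQuasiDihedral S) (R : Subgroup S)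
    (hR : R.index = 2) {v : S} (hv : orderOf v = 2) (hvR : v ∉ R) :
    IsCyclic R ∨ ∃ k : ℕ, Nonempty (R ≃* QuaternionGroup (2 ^ (k + 1))) := by
  haveI : Fact (Nat.Prime 2) := ⟨Nat.prime_two⟩
  obtain ⟨m, x, y, h⟩ := H39.exists_sdGen hS
  haveI := normal_of_index_eq_two hR
  have hzR : x ^ (4 * 2 ^ m : ℤ) ∈ R := by
    rw [show (4 * 2 ^ m : ℤ) = 2 * (2 * 2 ^ m) by ring, mul_comm, zpow_mul, zpow_two]
    exact mul_self_mem_of_index_two hR _
  obtain ⟨k, rfl⟩ := (h.mem_ord_two v hv).resolve_left fun e => hvR (e ▸ hzR)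
  have huniq : ∀ w ∈ R, orderOf w = 2 → w = x ^ (4 * 2 ^ m : ℤ) := by
    intro w hw hw2
    refine (h.mem_ord_two w hw2).resolve_right ?_
    rintro ⟨l, rfl⟩
    obtain ⟨c, hc⟩ := isConj_iff.1 (IsConj.trans (by simpa using h.isConj_out_of_dvd 0 l)
      (IsConj.symm (by simpa using h.isConj_out_of_dvd 0 k)) :
      IsConj (x ^ (2 * l) * y) (x ^ (2 * k) * y))
    exact hvR (hc ▸ Normal.conj_mem inferInstance _ hw c)
  have hu : ∀ H K : Subgroup R, Nat.card H = 2 → Nat.card K = 2 → H = K := by
    have key : ∀ H : Subgroup R, Nat.card H = 2 → H = zpowers ⟨_, hzR⟩ := by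
      intro H hH
      obtain ⟨g, hg⟩ := exists_prime_orderOf_dvd_card' (G := H) 2 (by rw [hH])
      have hgR : ((g : R) : S) = x ^ (4 * 2 ^ m : ℤ) :=
        huniq _ (g : R).2 (by rw [Subgroup.orderOf_coe, Subgroup.orderOf_coe, hg])
      rw [show (⟨_, hzR⟩ : R) = (g : R) from Subtype.ext hgR.symm]
      exact (eq_of_le_of_card_ge (zpowers_le.2 g.2)
        (by rw [Nat.card_zpowers, Subgroup.orderOf_coe, hg, hH])).symm
    exact fun H K hH hK => (key H hH).trans (key K hK).symm
  rcases S0016.result 2 (h.isPGroup.to_subgroup R) hu with hc | ⟨-, n, he⟩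
  · exact Or.inl hc
  · obtain ⟨e⟩ := he
    rcases n with _ | n
    · left
      rw [pow_zero] at e
      haveI : IsCyclic (QuaternionGroup 1) := QuaternionGroup.quaternionGroup_one_isCyclic
      exact e.isCyclic.2 inferInstance
    · exact Or.inr ⟨n, ⟨e⟩⟩

theorem not_isQuasiDihedral_of_le_dihedral {S : Type u} [Group S] [Finite S] {n : ℕ}
    (e : S ≃* DihedralGroup n) (R : Subgroup S) (hR : Cfsg.IsQuasiDihedral R) : False := by
  obtain ⟨m, x, y, h⟩ := H39.exists_sdGen hR
  set w := x ^ (2 * 0 + 1 : ℤ) * y with hw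
  have hw4 : orderOf w = 4 := h.orderOf_of_sq_eq_z (h.out_odd_sq 0)
  have hcomm : w * x = x * w := by
    have key : ∀ g : R, 3 ≤ orderOf g → ∃ i, e (g : S) = DihedralGroup.r i := by
      intro g hg
      rcases hd : e (g : S) with i | i
      · exact ⟨i, rfl⟩
      · have := congrArg orderOf hd
        rw [e.orderOf_eq, Subgroup.orderOf_coe, DihedralGroup.orderOf_sr] at this
        omega
    obtain ⟨i, hi⟩ := key w (by omega)
    obtain ⟨j, hj⟩ := key x (by rw [h.ox]; calc 3 ≤ 2 ^ 3 := by norm_num
                                                    _ ≤ 2 ^ (m + 3) := Nat.pow_le_pow_right two_pos (by omega))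
    refine Subtype.ext (e.injective ?_)
    show e ((w : S) * x) = e ((x : S) * w)
    rw [map_mul, map_mul, hi, hj, DihedralGroup.r_mul_r,
      DihedralGroup.r_mul_r, add_comm]
  have h1 := h.out_conj_in (2 * 0 + 1) 1
  rw [zpow_one, ← hw, hcomm, mul_inv_cancel_right, one_mul] at h1
  nth_rw 1 [← zpow_one x] at h1
  rw [h.zpow_eq] at h1
  obtain ⟨c, hc⟩ := h1
  have : (1 : ℤ) = 2 * (2 * 2 ^ m * c + 2 ^ m) := by linarith
  omega

/-- A dihedral group: a non-cyclic index-two subgroup avoiding an involution is dihedral. -/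
theorem dihedral_index_two {S : Type u} [Group S] [Finite S] (hS : IsPGroup 2 S)
    (h8 : 8 ≤ Nat.card S) {n : ℕ} (e : S ≃* DihedralGroup n) (R : Subgroup S) (hR : R.index = 2)
    {v : S} (hv : orderOf v = 2) (hvR : v ∉ R) (hnc : ¬ IsCyclic R) :
    ∃ d : ℕ, 2 ≤ d ∧ Nonempty (R ≃* DihedralGroup d) := by
  haveI : Fact (Nat.Prime 2) := ⟨Nat.prime_two⟩
  obtain ⟨k, hk⟩ := IsPGroup.iff_card.1 hS
  have hcard : Nat.card S = 2 * n := by rw [Nat.card_congr e.toEquiv, DihedralGroup.nat_card]
  obtain ⟨h, hn⟩ : ∃ h, n = 4 * h := by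
    have h3 : 3 ≤ k := (Nat.pow_le_pow_iff_right one_lt_two).1 (by rw [← hk]; norm_num; exact h8)
    obtain ⟨j, rfl⟩ : ∃ j, k = j + 3 := ⟨k - 3, by omega⟩
    exact ⟨2 ^ j, by rw [hk, pow_add] at hcard; norm_num at hcard; linarith⟩
  subst hn
  haveI : NeZero (4 * h) := ⟨fun h0 => by rw [h0] at hcard; omega⟩
  let ι : DihedralGroup (4 * h) → S := e.symm
  have hmul : ∀ a b, ι (a * b) = ι a * ι b := fun a b => map_mul e.symm a b
  have hin : ∀ a b, (ι a ∈ R ↔ ι b ∈ R) → ι (a * b) ∈ R := fun a b hab => by
    rw [hmul, mul_mem_iff_of_index_two hR]; exact hab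
  -- the central involution
  set c : DihedralGroup (4 * h) := DihedralGroup.r ((2 * h : ℕ) : ZMod (4 * h)) with hc
  have hcR : ι c ∈ R := by
    rw [hc, two_mul, Nat.cast_add, ← DihedralGroup.r_mul_r]
    exact hin _ _ Iff.rfl
  obtain ⟨i, hi⟩ : ∃ i, e v = DihedralGroup.sr i := by
    rcases hd : e v with i | i
    · exfalso
      apply hvR
      have h1 : i + i = 0 := by
        have := congrArg e (H39.mul_self_of_orderOf_eq_two hv)
        rw [map_mul, hd, map_one, DihedralGroup.r_mul_r, DihedralGroup.one_def, DihedralGroup.r.injEq] at this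
        exact this
      have hv' : v = ι (DihedralGroup.r i) := by rw [← hd]; exact (e.symm_apply_apply v).symm
      have h2 : ((2 * i.val : ℕ) : ZMod (4 * h)) = 0 := by
        push_cast
        rw [ZMod.natCast_zmod_val, two_mul, h1]
      rw [ZMod.natCast_eq_zero_iff] at h2
      obtain ⟨q, hq⟩ := h2
      rw [hv', ← ZMod.natCast_zmod_val i, show i.val = h * q + h * q by linarith, Nat.cast_add,
        ← DihedralGroup.r_mul_r]
      exact hin _ _ Iff.rfl
    · exact ⟨i, rfl⟩
  have hsr : ι (DihedralGroup.sr i) ∉ R := by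
    rw [← hi]; simpa [ι] using hvR
  have hr1 : ι (DihedralGroup.r 1) ∉ R := by
    intro hr
    apply hnc
    have hrot : ∀ j : ZMod (4 * h), ι (DihedralGroup.r j) ∈ R := fun j => by
      rw [← ZMod.natCast_zmod_val j, ← DihedralGroup.r_one_pow]
      have : ι (DihedralGroup.r (1 : ZMod (4 * h)) ^ j.val) = ι (DihedralGroup.r 1) ^ j.val :=
        map_pow e.symm _ _
      rw [this]
      exact pow_mem hr _
    have hle : R ≤ zpowers (ι (DihedralGroup.r 1)) := by
      intro g hg
      rcases hd : e g with j | j
      · have : g = ι (DihedralGroup.r 1) ^ (j.val) := by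
          apply e.injective
          rw [map_pow, hd]
          simp [ι]
        rw [this]
        exact pow_mem (mem_zpowers _) _
      · exfalso
        have hg' : ι (DihedralGroup.sr j) ∈ R := by rw [← hd]; simpa [ι] using hg
        have : ι (DihedralGroup.sr i) ∈ R := by
          rw [show DihedralGroup.sr i = DihedralGroup.sr j * DihedralGroup.r (i - j) by
            rw [DihedralGroup.sr_mul_r, add_sub_cancel]]
          exact hin _ _ (iff_of_true hg' (hrot _))
        exact hsr this
    exact isCyclic_of_injective (inclusion hle) (inclusion_injective hle)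
  set w := ι (DihedralGroup.sr (i + 1)) with hw
  have hwR : w ∈ R := by
    rw [hw, ← DihedralGroup.sr_mul_r]
    exact hin _ _ (iff_of_false hsr hr1)
  have hw2 : orderOf w = 2 := by rw [hw]; exact (e.symm.orderOf_eq _).trans (DihedralGroup.orderOf_sr _)
  set j := i + 1
  have hC : Nat.card (centralizer ({(⟨w, hwR⟩ : R)} : Set R)) = 4 := by
    have hne : ((2 * h : ℕ) : ZMod (4 * h)) ≠ 0 := by
      rw [Ne, ZMod.natCast_eq_zero_iff]
      intro hdvd
      have h1 := Nat.le_of_dvd (by omega) hdvd
      omega
    have hset : ((centralizer ({(⟨w, hwR⟩ : R)} : Set R)).map R.subtype : Set S) =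
        ι '' {1, c, DihedralGroup.sr j, c * DihedralGroup.sr j} := by
      ext g
      rw [SetLike.mem_coe, mem_map]
      constructor
      · rintro ⟨g', hg', rfl⟩
        refine ⟨e (g' : S), ?_, by simp [ι]⟩
        have h1 : e (g' : S) * DihedralGroup.sr j = DihedralGroup.sr j * e (g' : S) := by
          have := congrArg (fun t : R => e (t : S)) (mem_centralizer_singleton_iff.1 hg')
          simpa [hw, ι] using this
        have key : ∀ a : ZMod (4 * h), a + a = 0 → a = 0 ∨ a = ((2 * h : ℕ) : ZMod (4 * h)) := by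
          intro a ha
          have h2 : ((2 * a.val : ℕ) : ZMod (4 * h)) = 0 := by
            push_cast
            rw [ZMod.natCast_zmod_val, two_mul, ha]
          rw [ZMod.natCast_eq_zero_iff] at h2
          obtain ⟨q, hq⟩ := h2
          have := ZMod.val_lt a
          rcases q with _ | _ | q
          · left; exact (ZMod.val_eq_zero a).1 (by omega)
          · right; rw [← ZMod.natCast_zmod_val a]; congr 1; omega
          · nlinarith
        rcases hd : e (g' : S) with a | a <;> rw [hd] at h1
        · rw [DihedralGroup.r_mul_sr, DihedralGroup.sr_mul_r, DihedralGroup.sr.injEq] at h1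
          have h3 : a + a = 0 := by
            linear_combination -h1
          rcases key a h3 with rfl | rfl
          · rw [DihedralGroup.r_zero]; exact Set.mem_insert _ _
          · simp [hc]
        · rw [DihedralGroup.sr_mul_sr, DihedralGroup.sr_mul_sr, DihedralGroup.r.injEq] at h1
          have h3 : (a - j) + (a - j) = 0 := by
            linear_combination -h1
          rcases key _ h3 with e' | e'
          · rw [sub_eq_zero.1 e']; simp
          · rw [hc, DihedralGroup.r_mul_sr]
            have : j - ((2 * h : ℕ) : ZMod (4 * h)) = a := by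
              have h4 : ((2 * h : ℕ) : ZMod (4 * h)) + ((2 * h : ℕ) : ZMod (4 * h)) = 0 := by
                rw [← Nat.cast_add, show 2 * h + 2 * h = 4 * h by ring, ZMod.natCast_self]
              linear_combination -e' - h4
            simp only [this, Set.mem_insert_iff, Set.mem_singleton_iff, or_true]
      · rintro ⟨d, hd, rfl⟩
        have hdR : ι d ∈ R ∧ d * DihedralGroup.sr j = DihedralGroup.sr j * d := by
          have hcs : c * DihedralGroup.sr j = DihedralGroup.sr j * c := by
            rw [hc, DihedralGroup.r_mul_sr, DihedralGroup.sr_mul_r]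
            congr 1
            have h4 : ((2 * h : ℕ) : ZMod (4 * h)) + ((2 * h : ℕ) : ZMod (4 * h)) = 0 := by
              rw [← Nat.cast_add, show 2 * h + 2 * h = 4 * h by ring, ZMod.natCast_self]
            linear_combination -h4
          simp only [Set.mem_insert_iff, Set.mem_singleton_iff] at hd
          rcases hd with rfl | rfl | rfl | rfl
          · exact ⟨by simp [ι], by simp⟩
          · exact ⟨hcR, hcs⟩
          · exact ⟨hwR, rfl⟩
          · refine ⟨by rw [hmul]; exact mul_mem hcR hwR, ?_⟩
            rw [← mul_assoc (DihedralGroup.sr j) c, ← hcs]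
        refine ⟨⟨ι d, hdR.1⟩, mem_centralizer_singleton_iff.2 (Subtype.ext ?_), rfl⟩
        show ι d * w = w * ι d
        rw [hw, ← hmul, ← hmul, hdR.2]
    rw [← card_map_of_injective R.subtype_injective, ← SetLike.coe_sort_coe, Nat.card_coe_set_eq, hset,
      Set.ncard_image_of_injective _ e.symm.injective]
    rw [Set.ncard_insert_of_notMem, Set.ncard_insert_of_notMem, Set.ncard_pair]
    · intro h'
      rw [hc, DihedralGroup.r_mul_sr, DihedralGroup.sr.injEq] at h'
      exact hne (by linear_combination h')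
    · simp [hc, DihedralGroup.r_mul_sr]
    · rw [DihedralGroup.one_def]
      simp [hc, -DihedralGroup.r_zero, DihedralGroup.r_mul_sr]
      exact fun h' => hne (by push_cast; exact h'.symm)
  rcases S3224.result (hS.to_subgroup R) ⟨w, hwR⟩ (by rwa [← Subgroup.orderOf_coe]) hC with ⟨d, hd⟩ | hq | h4
  · refine ⟨d, ?_, hd⟩
    obtain ⟨f⟩ := hd
    have h1 := R.card_mul_index
    rw [hR, Nat.card_congr f.toEquiv, DihedralGroup.nat_card] at h1
    omega
  · exact (not_isQuasiDihedral_of_le_dihedral e R hq).elim
  · have h1 := R.card_mul_index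
    rw [hR, h4] at h1
    have h2 : h = 1 := by omega
    haveI : Nontrivial R := Finite.one_lt_card_iff_nontrivial.1 (by omega)
    haveI : IsKleinFour R := ⟨h4, by
        refine (Monoid.exponent_eq_prime_iff Nat.prime_two).2 fun g hg => ?_
        have hd : orderOf g ∣ 4 := h4 ▸ orderOf_dvd_natCard g
        rcases (Nat.dvd_prime_pow Nat.prime_two (i := orderOf g) (m := 2)).1 hd with ⟨t, ht, heq⟩
        interval_cases t
        · exact absurd (orderOf_eq_one_iff.1 (by simpa using heq)) hg
        · simpa using heq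
        · exfalso
          apply hnc
          exact isCyclic_of_orderOf_eq_card g (by rw [heq, h4]; norm_num)⟩
    haveI := H63.GW.isKleinFour_dihedral_two
    exact ⟨2, le_rfl, IsKleinFour.nonempty_mulEquiv⟩

end Cfsg.Agent.H70.SubThree
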