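import Cfsg.Agent.H70.SubThree.TwoGroup

/-!
# A minimal normal subgroup over the stabiliser
-/

set_option autoImplicit false
set_option linter.style.haveILetI false

namespace Cfsg.Agent.H70.SubThree

open Subgroup

universe u

variable {G : Type u} [Group G] [Finite G] {A : Subgroup G}

theorem Prim.minimal_facts (h : Prim A) {N : Subgroup G} [N.Normal] (hN : N ≠ ⊥)
    (hmin : ∀ K : Subgroup G, K.Normal → K ≠ ⊥ → K ≤ N → K = N) :
    Group.IsPerfect N ∧ Cfsg.oddCore N = ⊥ ∧ center N = ⊥ := by
  haveI : Nontrivial N := (nontrivial_iff_ne_bot N).2 hN
  have key : ∀ C : Subgroup N, C.Characteristic → C = ⊥ ∨ C = ⊤ := by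
    intro C hC
    haveI := hC
    haveI : (C.map N.subtype).Normal := ConjAct.normal_of_characteristic_of_normal
    by_cases hb : C.map N.subtype = ⊥
    · exact Or.inl ((map_eq_bot_iff_of_injective _ N.subtype_injective).1 hb)
    · right
      have h1 := hmin _ inferInstance hb (map_subtype_le C)
      refine map_injective N.subtype_injective ?_
      rw [h1, ← MonoidHom.range_eq_map, range_subtype]
  refine ⟨⟨?_⟩, ?_, ?_⟩
  · rcases key (commutator N) inferInstance with e | e
    · exfalso
      refine h.not_solvable hN (Group.isSolvable_of_comm fun a b => ?_)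
      have := commutator_mem_commutator (mem_top a) (mem_top b)
      rw [← commutator_def, e, mem_bot, commutatorElement_eq_one_iff_mul_comm] at this
      exact this
    · exact e
  · rcases key (Cfsg.oddCore N) inferInstance with e | e
    · exact e
    · exfalso
      have h1 := Cores.odd_card_oddCore (G := N)
      rw [e, card_top] at h1
      exact Nat.not_even_iff_odd.2 h1 (h.even_card hN)
  · rcases key (center N) inferInstance with e | e
    · exact e
    · exfalso
      refine h.not_solvable hN (Group.isSolvable_of_comm fun a b => ?_)
      have : a ∈ center N := e ▸ mem_top a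
      exact ((mem_center_iff.1 this) b).symm

end Cfsg.Agent.H70.SubThree
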