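import Cfsg.Agent.H70.SubThree.DSixModel
import Cfsg.Agent.H70.SubThree.Common
import Cfsg.Agent.H70.SubThree.Minimal
import Cfsg.Agent.H70.SubThree.IndexTwo
import Cfsg.Agent.H70.SubThree.IndexTwoSylow
import Cfsg.Agent.H70.SubThree.AutIso
import Cfsg.Agent.H70.SubThree.AltSeven
import Cfsg.Agent.H70.SubThree.PSLTwo
import Cfsg.Agent.H25.BrauerSuzuki

/-!
# Stabiliser dihedral of order twelve
-/

set_option autoImplicit false
set_option linter.style.haveILetI false
set_option linter.unusedSectionVars false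

namespace Cfsg.Agent.H70.SubThree

open Subgroup DihedralGroup

universe u

variable {G : Type u} [Group G] [Finite G]

/-- Number of elements counted in a normal subgroup isomorphic to a known group. -/
theorem count_inner {N : Subgroup G} [N.Normal] {s : G} (hs : s ∈ N) :
    Nat.card (centralizer ({s} : Set G)) ≤
        N.index * Nat.card (centralizer ({(⟨s, hs⟩ : N)} : Set N)) ∧
      {v : G | v ∈ N ∧ v * s = s * v ∧ orderOf v = 2 ∧ v ≠ s}.ncard =
        {x : N | x * ⟨s, hs⟩ = ⟨s, hs⟩ * x ∧ orderOf x = 2 ∧ x ≠ ⟨s, hs⟩}.ncard := by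
  constructor
  · set Cs := centralizer ({s} : Set G)
    have h3 := (N.subgroupOf Cs).card_mul_index
    have h4 : N.relIndex Cs ≤ N.index :=
      Nat.le_of_dvd (Nat.pos_of_ne_zero index_ne_zero_of_finite) (relIndex_dvd_index_of_normal N Cs)
    have h5 : Nat.card (N.subgroupOf Cs) = Nat.card (centralizer ({(⟨s, hs⟩ : N)} : Set N)) :=
      Nat.card_congr
        { toFun := fun c => ⟨⟨c.1.1, c.2⟩, mem_centralizer_singleton_iff.2
            (Subtype.ext (mem_centralizer_singleton_iff.1 c.1.2 :))⟩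
          invFun := fun c => ⟨⟨c.1.1, mem_centralizer_singleton_iff.2
            (congrArg Subtype.val (mem_centralizer_singleton_iff.1 c.2) :)⟩, c.1.2⟩
          left_inv := fun c => rfl
          right_inv := fun c => rfl }
    rw [← h3, h5, mul_comm N.index]
    exact Nat.mul_le_mul_left _ h4
  · rw [← Set.ncard_image_of_injective _ N.subtype_injective]
    congr 1
    ext v
    constructor
    · rintro ⟨hvN, h1, h2, h3⟩
      exact ⟨⟨v, hvN⟩, ⟨Subtype.ext h1, by rwa [← Subgroup.orderOf_coe],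
        fun h => h3 (congrArg Subtype.val h)⟩, rfl⟩
    · rintro ⟨x, ⟨h1, h2, h3⟩, rfl⟩
      exact ⟨x.2, congrArg Subtype.val h1, by rwa [N.subtype_apply, Subgroup.orderOf_coe],
        fun h => h3 (Subtype.ext h)⟩

/-- No nontrivial normal subgroup avoids the central involution. -/
theorem dsix_simple {A : Subgroup G} (h : Prim A) (e : A ≃* DihedralGroup 6)
    (hno : ∀ N : Subgroup G, N.Normal → N ≠ ⊥ → ((e.symm (r 3) : A) : G) ∈ N) :
    Nonempty (G ≃* Matrix.ProjectiveSpecialLinearGroup (Fin 2) (ZMod 11)) ∨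
      Nonempty (G ≃* Matrix.ProjectiveSpecialLinearGroup (Fin 2) (ZMod 13)) := by
  classical
  haveI : Fact (Nat.Prime 2) := ⟨Nat.prime_two⟩
  set zA : A := e.symm (r 3) with hzA
  set z : G := (zA : G) with hz
  have hzA2 : orderOf zA = 2 := by
    rw [hzA, e.symm.orderOf_eq]
    exact orderOf_eq_prime (by decide) (by decide)
  have hz2 : orderOf z = 2 := by rw [hz, Subgroup.orderOf_coe, hzA2]
  have hcA : ∀ a : A, a * zA = zA * a := fun a => e.injective (by
    rw [map_mul, map_mul, hzA, e.apply_symm_apply]; exact dsix_central _)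
  have hC : centralizer ({z} : Set G) = A := h.centralizer_eq
    (fun h1 => by rw [h1, orderOf_one] at hz2; omega) zA.2 fun a ha => congrArg Subtype.val (hcA ⟨a, ha⟩)
  have hA : Nat.card A = 12 := by rw [Nat.card_congr e.toEquiv, DihedralGroup.nat_card]
  obtain ⟨VA⟩ := (inferInstance : Nonempty (Sylow 2 A))
  haveI : (zpowers zA).Normal := ⟨fun x hx g => by
    obtain ⟨k, rfl⟩ := mem_zpowers_iff.1 hx
    rw [((show Commute g zA from hcA g).zpow_right k).eq, mul_inv_cancel_right]
    exact hx⟩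
  have hzV : zA ∈ (VA : Subgroup A) :=
    (IsPGroup.of_card (p := 2) (n := 1) (by rw [Nat.card_zpowers, hzA2, pow_one])).le_sylow_of_normal VA
      (mem_zpowers zA)
  set V := (VA : Subgroup A).map A.subtype with hV
  have hVc : Nat.card V = 2 ^ 2 := by
    rw [hV, card_subtype, VA.card_eq_multiplicity, hA, show 12 = 2 ^ 2 * 3 from rfl,
      fact_two 2 3 (by decide)]
  have hzVG : z ∈ V := mem_map_of_mem _ hzV
  obtain ⟨P, hVP, hPV⟩ := exists_sylow_above (k := 2) (o := 3) hVc
    (by rw [hC]; exact map_subtype_le _) (by decide) (by rw [hC, hA]; rfl)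
  -- simplicity
  haveI : Nontrivial G := ⟨⟨z, 1, fun h1 => by rw [h1, orderOf_one] at hz2; omega⟩⟩
  haveI hsimple : IsSimpleGroup G := ⟨fun N hN => by
    haveI := hN
    by_contra hcon
    push Not at hcon
    obtain ⟨hNb, hNt⟩ := hcon
    set K : Subgroup (DihedralGroup 6) := (N.subgroupOf A).comap e.symm.toMonoidHom with hK
    haveI : (N.subgroupOf A).Normal := Normal.subgroupOf hN A
    haveI : K.Normal := Normal.comap inferInstance _
    have h3 : r 3 ∈ K := hno N hN hNb
    have hrot : ∀ g ∈ K, ∀ i, g ≠ sr i := by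
      rintro g hg i rfl
      have hr1 : r 1 ∈ K := by
        have := K.mul_mem h3 (K.inv_mem (dsix_rot hg))
        rwa [inv_r, r_mul_r, show (3 : ZMod 6) + -2 = 1 by decide] at this
      have hall : ∀ x, x ∈ K := by
        have hr : ∀ j : ZMod 6, r j ∈ K := fun j => by
          rw [← ZMod.natCast_zmod_val j, ← r_one_pow]
          exact pow_mem hr1 _
        rintro (j | j)
        · exact hr j
        · rw [show sr j = sr i * r (j - i) by rw [sr_mul_r, add_sub_cancel]]
          exact K.mul_mem hg (hr _)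
      apply hNt
      rw [← h.sup_eq_top hNb, eq_comm, sup_eq_right]
      intro a ha
      have := hall (e ⟨a, ha⟩)
      exact mem_subgroupOf.1 (show (⟨a, ha⟩ : A) ∈ N.subgroupOf A by simpa [hK] using this)
    have hKle : K ≤ zpowers (r (1 : ZMod 6)) := fun g hg => dsix_rotations g (hrot g hg)
    have hdvd : Nat.card ↥(N ⊓ A) ∣ 6 := by
      have h1 : Nat.card ↥(N ⊓ A) = Nat.card K := by
        rw [← Nat.card_congr (subgroupOfEquivOfLe (inf_le_right : N ⊓ A ≤ A)).toEquiv, inf_subgroupOf_right,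
          hK]
        exact Nat.card_congr (e.toEquiv.subtypeEquiv fun a => by simp [mem_subgroupOf])
      rw [h1]
      refine (card_dvd_of_le hKle).trans ?_
      rw [Nat.card_zpowers, DihedralGroup.orderOf_r_one]
    set R := (P : Subgroup G) ⊓ N with hR
    have hzR : z ∈ R := ⟨hVP hzVG, hno N hN hNb⟩
    have hRz : ∀ g ∈ R, g * z = z * g → g ∈ zpowers z := by
      intro g hg hc
      have h1 : R ⊓ centralizer ({z} : Set G) = zpowers z := by
        refine (eq_of_le_of_card_ge (le_inf (zpowers_le.2 hzR)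
          (zpowers_le.2 (mem_centralizer_singleton_iff.2 rfl))) ?_).symm
        have h2 : R ⊓ centralizer ({z} : Set G) ≤ N ⊓ A := hC ▸ inf_le_inf_right _ inf_le_right
        have h3' := (card_dvd_of_le h2).trans hdvd
        obtain ⟨k, hk⟩ := IsPGroup.iff_card.1
          (P.isPGroup'.to_le ((inf_le_left.trans inf_le_left : R ⊓ centralizer ({z} : Set G) ≤ P)))
        rw [hk] at h3' ⊢
        rw [Nat.card_zpowers, hz2]
        rcases k with _ | _ | k
        · norm_num
        · norm_num
        · exact absurd (dvd_trans (pow_dvd_pow 2 (by omega : 2 ≤ k + 1 + 1)) h3') (by norm_num)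
      rw [← h1]
      exact ⟨hg, mem_centralizer_singleton_iff.2 hc⟩
    have hRbot : R = zpowers z := by
      refine le_antisymm ?_ (zpowers_le.2 hzR)
      haveI : Nontrivial R := ⟨⟨⟨z, hzR⟩, 1, fun h1 => by
        have := congrArg Subtype.val h1
        rw [show z = 1 from this, orderOf_one] at hz2; omega⟩⟩
      haveI := (P.isPGroup'.to_le (inf_le_left : R ≤ P)).center_nontrivial
      obtain ⟨c, hc1⟩ := exists_ne (1 : center R)
      have hcz : ((c : R) : G) ∈ zpowers z := hRz _ (c : R).2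
        (congrArg Subtype.val (mem_center_iff.1 c.2 ⟨z, hzR⟩)).symm
      have hcz' : ((c : R) : G) = z := by
        obtain ⟨k, hk⟩ := mem_zpowers_iff.1 hcz
        rcases Int.even_or_odd' k with ⟨j, rfl | rfl⟩
        · exfalso
          rw [zpow_mul, zpow_two, H39.mul_self_of_orderOf_eq_two hz2, one_zpow] at hk
          exact hc1 (Subtype.ext (Subtype.ext hk.symm))
        · rw [zpow_add_one, zpow_mul, zpow_two, H39.mul_self_of_orderOf_eq_two hz2, one_zpow, one_mul] at hk
          exact hk.symm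
      intro g hg
      refine hRz g hg ?_
      rw [← hcz']
      exact congrArg Subtype.val (mem_center_iff.1 c.2 ⟨g, hg⟩)
    have h1 := card_inf_sylow P N
    rw [← hR, hRbot, Nat.card_zpowers, hz2] at h1
    have h2 : 2 ≤ (Nat.card N).factorization 2 :=
      (Nat.prime_two.pow_dvd_iff_le_factorization Nat.card_pos.ne').1 (h.four_dvd_card hNb)
    have h3 := Nat.pow_le_pow_right two_pos h2
    omega⟩
  have hna : ¬ IsMulCommutative G := fun hc => h.insol (Group.isSolvable_of_comm fun a b => hc.is_comm.comm a b)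
  have hPsmall : (P : Subgroup G) ⊓ centralizer ({z} : Set G) = V := hPV
  have hP4 : Nat.card (P : Subgroup G) = 4 := by
    have h4 : 4 ≤ Nat.card (P : Subgroup G) := by
      have h4' := Nat.le_of_dvd Nat.card_pos (card_dvd_of_le hVP)
      rw [hVc] at h4'
      exact h4'
    obtain ⟨k, hk⟩ := IsPGroup.iff_card.1 P.isPGroup'
    by_contra hne
    have h8 : 8 ≤ Nat.card (P : Subgroup G) := by
      rcases k with _ | _ | _ | k
      · omega
      · omega
      · omega
      · rw [hk]; exact (Nat.pow_le_pow_right two_pos (by omega : 3 ≤ k + 1 + 1 + 1))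
    have hmc := maxClass_of_small P hz2 (hVP hzVG) (by rw [hPsmall, hVc]; rfl) h8
    have hd := card_sylow_dvd_centralizer P hz2 (one_class hna P hmc.exists_cyclic)
    rw [hC, hA, hk] at hd
    have h3 : 3 ≤ k := (Nat.pow_le_pow_iff_right one_lt_two).1 (by rw [← hk]; exact h8)
    exact absurd ((pow_dvd_pow 2 h3).trans hd) (by norm_num)
  haveI : Nontrivial ↥(P : Subgroup G) := Finite.one_lt_card_iff_nontrivial.1 (by omega)
  have hPK : IsKleinFour ↥(P : Subgroup G) := ⟨hP4, by
    refine (Monoid.exponent_eq_prime_iff Nat.prime_two).2 fun g hg => ?_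
    have hd : orderOf g ∣ 4 := hP4 ▸ orderOf_dvd_natCard g
    rcases (Nat.dvd_prime_pow Nat.prime_two (i := orderOf g) (m := 2)).1 hd with ⟨t, ht, heq⟩
    interval_cases t
    · exact absurd (orderOf_eq_one_iff.1 (by simpa using heq)) hg
    · simpa using heq
    · exfalso
      exact h.insol (isSolvable_of_cyclic_sylow P (isCyclic_of_orderOf_eq_card g (by rw [heq, hP4]; rfl)))⟩
  haveI := hPK
  haveI := H63.GW.isKleinFour_dihedral_two
  rcases dihedral_simple hna P le_rfl IsKleinFour.nonempty_mulEquiv with ⟨F, _, _, hodd, h3, hf⟩ | hf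
  · obtain ⟨f⟩ := hf
    obtain ⟨m, hm, hCm, -⟩ := involution_of_equiv hodd f z hz2
    rw [hC, hA] at hCm
    obtain f11 | f13 : Fintype.card F = 11 ∨ Fintype.card F = 13 := by
      rcases hm with hm | hm
      · exact Or.inr (by omega)
      · exact Or.inl (by omega)
    · haveI : Fact (Nat.Prime 11) := ⟨by norm_num⟩
      exact Or.inl ((psl_congr (ZMod.ringEquivOfPrime F (by norm_num) f11).symm).map f.trans)
    · haveI : Fact (Nat.Prime 13) := ⟨by norm_num⟩
      exact Or.inr ((psl_congr (ZMod.ringEquivOfPrime F (by norm_num) f13).symm).map f.trans)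
  · exfalso
    obtain ⟨f⟩ := hf
    have h1 := P.card_eq_multiplicity
    rw [hP4, Nat.card_congr f.toEquiv, nat_card_alternatingGroup, Nat.card_fin,
      show Nat.factorial 7 / 2 = 2 ^ 3 * 315 from rfl, fact_two 3 315 (by decide)] at h1
    omega

/-- A nontrivial normal subgroup avoiding the central involution. -/
theorem dsix_index {A : Subgroup G} (h : Prim A) (e : A ≃* DihedralGroup 6) (N : Subgroup G)
    [N.Normal] (hNb : N ≠ ⊥) (hzN : ((e.symm (r 3) : A) : G) ∉ N) :
    Nonempty (G ≃* Equiv.Perm (Fin 5)) ∨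
      Nonempty (G ≃* GL (Fin 2) (ZMod 7) ⧸ Subgroup.center (GL (Fin 2) (ZMod 7))) := by
  classical
  haveI : Fact (Nat.Prime 2) := ⟨Nat.prime_two⟩
  set zA : A := e.symm (r 3) with hzA
  set z : G := (zA : G) with hz
  have hzA2 : orderOf zA = 2 := by
    rw [hzA, e.symm.orderOf_eq]
    exact orderOf_eq_prime (by decide) (by decide)
  have hz2 : orderOf z = 2 := by rw [hz, Subgroup.orderOf_coe, hzA2]
  have hz1 : z ≠ 1 := fun h1 => by rw [h1, orderOf_one] at hz2; omega
  have hcA : ∀ a : A, a * zA = zA * a := fun a => e.injective (by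
    rw [map_mul, map_mul, hzA, e.apply_symm_apply]; exact dsix_central _)
  have hC : centralizer ({z} : Set G) = A := h.centralizer_eq hz1 zA.2
    fun a ha => congrArg Subtype.val (hcA ⟨a, ha⟩)
  have hA : Nat.card A = 12 := by rw [Nat.card_congr e.toEquiv, DihedralGroup.nat_card]
  -- every such subgroup meets the stabiliser in the symmetric group of degree three
  have key : ∀ M : Subgroup G, M.Normal → M ≠ ⊥ → z ∉ M → M.index = 2 ∧
      ∃ i : ZMod 6, ∀ a : A, (a : G) ∈ M ↔
        (e a = 1 ∨ e a = r 2 ∨ e a = r 4 ∨ e a = sr i ∨ e a = sr i * r 2 ∨ e a = sr i * r 4) := by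
    intro M hM hMb hzM
    haveI := hM
    obtain ⟨x, hxM, hx2, hxc⟩ := exists_fixed (V := zpowers z)
      (IsPGroup.of_card (p := 2) (n := 1) (by rw [Nat.card_zpowers, hz2, pow_one])) M (h.even_card hMb)
    have hxA : x ∈ A := hC ▸ mem_centralizer_singleton_iff.2 (hxc z (mem_zpowers z)).symm
    set K : Subgroup (DihedralGroup 6) := (M.subgroupOf A).comap e.symm.toMonoidHom with hK
    haveI : (M.subgroupOf A).Normal := Normal.subgroupOf hM A
    haveI : K.Normal := Normal.comap inferInstance _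
    have hxx : e ⟨x, hxA⟩ * e ⟨x, hxA⟩ = 1 := by
      rw [← map_mul, show (⟨x, hxA⟩ : A) * ⟨x, hxA⟩ = 1 from
        Subtype.ext (H39.mul_self_of_orderOf_eq_two hx2), map_one]
    have hxK : e ⟨x, hxA⟩ ∈ K := by simpa [hK, mem_subgroupOf] using hxM
    rcases dsix_invol _ hxx with e1 | e1 | ⟨i, e1⟩
    · exfalso
      rw [MulEquiv.map_eq_one_iff] at e1
      rw [show x = 1 from congrArg Subtype.val e1, orderOf_one] at hx2
      omega
    · exfalso
      apply hzM
      rw [hz, hzA, ← e1, e.symm_apply_apply]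
      exact hxM
    · have h3 : r 3 ∉ K := fun h3 => hzM h3
      obtain ⟨hKi, hKm⟩ := dsix_index_two (e1 ▸ hxK) h3
      have h6 : Nat.card ↥(M ⊓ A) = 6 := by
        rw [← Nat.card_congr (subgroupOfEquivOfLe (inf_le_right : M ⊓ A ≤ A)).toEquiv, inf_subgroupOf_right,
          show Nat.card (M.subgroupOf A) = Nat.card K from
            Nat.card_congr (e.toEquiv.subtypeEquiv fun a => by simp [hK, mem_subgroupOf])]
        have h1 := K.card_mul_index
        rw [hKi, DihedralGroup.nat_card] at h1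
        omega
      have hi := h.card_inter_mul_index hMb
      rw [h6, hA] at hi
      refine ⟨by omega, i, fun a => ?_⟩
      rw [← hKm (e a), hK, mem_comap, mem_subgroupOf]
      simp
  obtain ⟨hidx, i, hNA⟩ := key N inferInstance hNb hzN
  have hmin : ∀ K : Subgroup G, K.Normal → K ≠ ⊥ → K ≤ N → K = N := by
    intro K hK hKb hKN
    refine eq_of_le_of_card_ge hKN (le_of_eq ?_)
    have h1 := K.card_mul_index
    have h2 := N.card_mul_index
    rw [(key K hK hKb fun hh => hzN (hKN hh)).1] at h1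
    rw [hidx] at h2
    omega
  obtain ⟨hperf, hON, hZN⟩ := h.minimal_facts hNb hmin
  have hCN : centralizer (N : Set G) = ⊥ := by
    by_contra hne
    by_cases hzc : z ∈ centralizer (N : Set G)
    · refine hNb (h.core N inferInstance fun n hn => ?_)
      exact hC ▸ mem_centralizer_singleton_iff.2 (mem_centralizer_iff.1 hzc n hn)
    · obtain ⟨-, j, hj⟩ := key _ inferInstance hne hzc
      have h2 : ((e.symm (r 2) : A) : G) ∈ centralizer (N : Set G) :=
        (hj _).2 (Or.inr (Or.inl (e.apply_symm_apply _)))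
      have h2N : ((e.symm (r 2) : A) : G) ∈ N := (hNA _).2 (Or.inr (Or.inl (e.apply_symm_apply _)))
      have hsN : ((e.symm (sr i) : A) : G) ∈ N :=
        (hNA _).2 (Or.inr (Or.inr (Or.inr (Or.inl (e.apply_symm_apply _)))))
      have hc := mem_centralizer_iff.1 h2 _ hsN
      have hc' : sr i * r 2 = r 2 * sr i := by
        have := congrArg e (Subtype.ext hc : (e.symm (sr i) : A) * e.symm (r 2) = e.symm (r 2) * e.symm (sr i))
        simpa using this
      revert hc'
      generalize i = k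
      revert k
      decide +kernel
  -- the Sylow subgroups
  obtain ⟨VA⟩ := (inferInstance : Nonempty (Sylow 2 A))
  haveI : (zpowers zA).Normal := ⟨fun x hx g => by
    obtain ⟨k, rfl⟩ := mem_zpowers_iff.1 hx
    rw [((show Commute g zA from hcA g).zpow_right k).eq, mul_inv_cancel_right]
    exact hx⟩
  have hzV : zA ∈ (VA : Subgroup A) :=
    (IsPGroup.of_card (p := 2) (n := 1) (by rw [Nat.card_zpowers, hzA2, pow_one])).le_sylow_of_normal VA
      (mem_zpowers zA)
  have hVc : Nat.card ((VA : Subgroup A).map A.subtype) = 2 ^ 2 := by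
    rw [card_subtype, VA.card_eq_multiplicity, hA, show 12 = 2 ^ 2 * 3 from rfl, fact_two 2 3 (by decide)]
  obtain ⟨P, hVP, hPV⟩ := exists_sylow_above (k := 2) (o := 3) hVc
    (by rw [hC]; exact map_subtype_le _) (by decide) (by rw [hC, hA]; rfl)
  have hzP : z ∈ (P : Subgroup G) := hVP (mem_map_of_mem _ hzV)
  obtain ⟨R, hR⟩ := Thompson.exists_sylow_inf_normal P N
  set R0 := N.subgroupOf (P : Subgroup G) with hR0
  have hR0i : R0.index = 2 := by
    have h1 : N.relIndex (P : Subgroup G) ∣ N.index := relIndex_dvd_index_of_normal N (P : Subgroup G)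
    rw [hidx, relIndex, ← hR0] at h1
    rcases (Nat.dvd_prime Nat.prime_two).1 h1 with e1 | e1
    · have h2 : (⟨z, hzP⟩ : ↥(P : Subgroup G)) ∈ R0 := by
        rw [index_eq_one.1 e1]
        exact mem_top _
      exact absurd h2 hzN
    · exact e1
  have hR0c : Nat.card R0 = Nat.card ↥((P : Subgroup G) ⊓ N) := by
    rw [hR0, ← inf_subgroupOf_left, Nat.card_congr (subgroupOfEquivOfLe inf_le_left).toEquiv]
  have h8 : 8 ≤ Nat.card (P : Subgroup G) := by
    have h1 := R0.card_mul_index
    rw [hR0i, hR0c, card_inf_sylow P N] at h1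
    have h2 : 2 ≤ (Nat.card N).factorization 2 :=
      (Nat.prime_two.pow_dvd_iff_le_factorization Nat.card_pos.ne').1 (h.four_dvd_card hNb)
    have h3 := Nat.pow_le_pow_right two_pos h2
    omega
  have hmc := maxClass_of_small P hz2 hzP (by rw [hPV, hVc]; rfl) h8
  let eR : R0 ≃* (R : Subgroup N) :=
    ((R0.equivMapOfInjective _ (P : Subgroup G).subtype_injective).trans (MulEquiv.subgroupCongr
      (show R0.map (P : Subgroup G).subtype = (R : Subgroup N).map N.subtype by
        rw [hR, hR0, subgroupOf_map_subtype, inf_comm]))).trans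
      ((R : Subgroup N).equivMapOfInjective _ N.subtype_injective).symm
  have hnc : ¬ IsCyclic R0 := fun hc =>
    h.not_solvable hNb (isSolvable_of_cyclic_sylow R (eR.symm.isCyclic.2 hc))
  have hv : orderOf (⟨z, hzP⟩ : ↥(P : Subgroup G)) = 2 := by rw [← Subgroup.orderOf_coe]; exact hz2
  have hdih : ∃ n : ℕ, Nonempty ((P : Subgroup G) ≃* DihedralGroup n) := by
    rcases hmc with hd | hq
    · exact hd
    · exfalso
      rcases sd_index_two hq R0 hR0i hv hzN with hc | ⟨k, hk⟩
      · exact hnc hc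
      · obtain ⟨f⟩ := hk
        have h1 := H25.brauerSuzuki_card_center R (eR.symm.trans f) hON
        rw [hZN, card_bot] at h1
        omega
  obtain ⟨n, hn⟩ := hdih
  obtain ⟨eP⟩ := hn
  obtain ⟨d, hd2, hRd⟩ := dihedral_index_two P.isPGroup' h8 eP R0 hR0i hv hzN hnc
  have hRd' : Nonempty ((R : Subgroup N) ≃* DihedralGroup d) := hRd.map eR.symm.trans
  haveI := hperf
  let e0 : N ⧸ Cfsg.oddCore N ≃* N :=
    (QuotientGroup.quotientMulEquivOfEq hON).trans QuotientGroup.quotientBot
  -- an involution of `N`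
  set sA : A := e.symm (sr i) with hsA
  have hsN : (sA : G) ∈ N := (hNA _).2 (Or.inr (Or.inr (Or.inr (Or.inl (e.apply_symm_apply _)))))
  have hs2 : orderOf (sA : G) = 2 := by
    rw [Subgroup.orderOf_coe, hsA, e.symm.orderOf_eq, DihedralGroup.orderOf_sr]
  have hcls := two_classes h.insol P h8 ⟨n, ⟨eP⟩⟩ N hidx hs2 hsN hz2 hzN
  have hconj : ∀ {a b : G}, IsConj a b → (a ∈ N ↔ b ∈ N) := by
    intro a b hab
    obtain ⟨c, rfl⟩ := isConj_iff.1 hab
    exact ⟨fun hh => Normal.conj_mem inferInstance _ hh c, fun hh => by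
      have := Normal.conj_mem inferInstance _ hh c⁻¹
      simpa [mul_assoc] using this⟩
  have hin : ∀ v ∈ N, orderOf v = 2 → IsConj (sA : G) v := fun v hv hv2 =>
    (hcls v hv2).resolve_right fun hh => hzN ((hconj hh).2 hv)
  have hout : ∀ v, v ∉ N → orderOf v = 2 → IsConj z v := fun v hv hv2 =>
    (hcls v hv2).resolve_left fun hh => hv ((hconj hh).1 hsN)
  have hB : {p : G × G | orderOf p.1 = 2 ∧ orderOf p.2 = 2 ∧ p.1 ∉ N ∧ p.2 ∈ N ∧
      p.1 * z = z * p.1 ∧ p.2 * z = z * p.2 ∧ z ∈ zpowers (p.1 * p.2)}.ncard ≤ 12 := by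
    rw [← dsix_outer_count i, ← Set.ncard_coe_finset]
    let g : G → DihedralGroup 6 := fun x => if hx : x ∈ A then e ⟨x, hx⟩ else 1
    refine Set.ncard_le_ncard_of_injOn (fun p => (g p.1, g p.2)) ?_ ?_ (Finset.finite_toSet _)
    · rintro ⟨a, b⟩ ⟨ha, hb, haN, hbN, hac, hbc, -⟩
      have haA : a ∈ A := hC ▸ mem_centralizer_singleton_iff.2 hac
      have hbA : b ∈ A := hC ▸ mem_centralizer_singleton_iff.2 hbc
      simp only [Finset.coe_filter, Finset.mem_univ, true_and, Set.mem_ofPred_eq, g, dif_pos haA,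
        dif_pos hbA]
      have hsq : ∀ (x : G) (hx : x ∈ A), orderOf x = 2 → e ⟨x, hx⟩ * e ⟨x, hx⟩ = 1 := fun x hx hx2 => by
        rw [← map_mul, show (⟨x, hx⟩ : A) * ⟨x, hx⟩ = 1 from
          Subtype.ext (H39.mul_self_of_orderOf_eq_two hx2), map_one]
      refine ⟨⟨hsq a haA ha, fun hh => haN ((hNA ⟨a, haA⟩).2 hh)⟩, hsq b hbA hb, fun hh => ?_,
        (hNA ⟨b, hbA⟩).1 hbN⟩
      rw [MulEquiv.map_eq_one_iff] at hh
      rw [show b = 1 from congrArg Subtype.val hh, orderOf_one] at hb
      omega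
    · rintro ⟨a, b⟩ ⟨-, -, -, -, hac, hbc, -⟩ ⟨a', b'⟩ ⟨-, -, -, -, hac', hbc', -⟩ heq
      have haA : a ∈ A := hC ▸ mem_centralizer_singleton_iff.2 hac
      have hbA : b ∈ A := hC ▸ mem_centralizer_singleton_iff.2 hbc
      have haA' : a' ∈ A := hC ▸ mem_centralizer_singleton_iff.2 hac'
      have hbA' : b' ∈ A := hC ▸ mem_centralizer_singleton_iff.2 hbc'
      simp only [g, dif_pos haA, dif_pos hbA, dif_pos haA', dif_pos hbA', Prod.mk.injEq,
        e.injective.eq_iff, Subtype.mk.injEq] at heq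
      rw [heq.1, heq.2]
  obtain ⟨hCs, hDs⟩ := count_inner (N := N) hsN
  rw [hidx] at hCs
  have hN2 := N.card_mul_index
  rw [hidx] at hN2
  rcases S0483.result R d hd2 hRd' with ⟨F, _, _, hodd, h3, hf⟩ | hf
  · obtain ⟨f0⟩ := hf
    let f : N ≃* Matrix.ProjectiveSpecialLinearGroup (Fin 2) F := e0.symm.trans f0
    obtain ⟨m, hm, hCm, hDm⟩ := involution_of_equiv hodd f ⟨(sA : G), hsN⟩
      (by rw [← Subgroup.orderOf_coe]; exact hs2)
    rw [hCm] at hCs
    have key' := card_le N hidx z _ hz2 hzN hs2 hsN hin hout 12 hB (m / 2) (by rw [hDs]; omega)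
    rw [hC, hA] at key'
    have hPSL := Linear.card_PSL_two_mul (F := F)
    rw [show Nat.gcd 2 (Fintype.card F - 1) = 2 from
      Nat.gcd_eq_left (by obtain ⟨r', hr⟩ := hodd; omega), ← Nat.card_congr f.toEquiv] at hPSL
    have hb : 2 * Nat.card G ≤ 2 * (2 * m * 12) + 12 * (2 * m * (m / 2)) := key'.trans
      (Nat.add_le_add (Nat.mul_le_mul_left 2 (Nat.mul_le_mul_right 12 hCs))
        (Nat.mul_le_mul_left 12 (Nat.mul_le_mul_right _ hCs)))
    have hm2 : 2 * m * (m / 2) ≤ m * m := by
      calc 2 * m * (m / 2) = m * (2 * (m / 2)) := by ring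
        _ ≤ m * m := Nat.mul_le_mul_left _ (Nat.mul_div_le m 2)
    have hq : Fintype.card F ≤ 9 ∧ ¬ (Fintype.card F = 9 ∧ m = 8) := by
      have ho := Nat.odd_iff.1 hodd
      generalize Fintype.card F = q at hPSL hm h3 ho ⊢
      constructor
      · by_contra hlt
        obtain ⟨r', rfl⟩ : ∃ r', q = r' + 11 := ⟨q - 11, by omega⟩
        rw [show (r' + 11) ^ 2 - 1 = (r' + 10) * (r' + 12) by
          rw [show (r' + 11) ^ 2 = (r' + 10) * (r' + 12) + 1 by ring, Nat.add_sub_cancel]] at hPSL
        have hle : 4 * m + m * m ≤ (r' + 12) * (r' + 16) := by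
          calc 4 * m + m * m = m * (m + 4) := by ring
            _ ≤ (r' + 12) * (r' + 16) := Nat.mul_le_mul (by omega) (by omega)
        have h1 : ((r' + 11) * (r' + 10)) * (r' + 12) ≤ (6 * (r' + 16)) * (r' + 12) := by nlinarith
        have h2 := Nat.le_of_mul_le_mul_right h1 (by omega)
        nlinarith
      · rintro ⟨rfl, rfl⟩
        norm_num at hPSL hb
        omega
    have h4m : Fintype.card F = 5 ∨ Fintype.card F = 7 := by
      obtain ⟨r', hr⟩ := hodd
      by_contra hcon
      have hq9 : Fintype.card F = 9 := by omega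
      -- the centraliser contains a four-group
      have hm8 : 4 ∣ m := by
        obtain ⟨Q, hQ⟩ := (IsPGroup.of_card (p := 2) (n := 1) (by
          rw [Nat.card_zpowers, ← Subgroup.orderOf_coe, hs2, pow_one]) :
          IsPGroup 2 ↥(zpowers (⟨(sA : G), hsN⟩ : N))).exists_le_sylow
        obtain ⟨g⟩ := hRd'
        exact four_dvd_centralizer Q ((Sylow.equiv Q R).trans g) hd2 (hQ (mem_zpowers _))
          (by rw [← Subgroup.orderOf_coe]; exact hs2) hCm
      omega
    rcases h4m with h5 | h7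
    · left
      haveI : Fact (Nat.Prime 5) := ⟨by norm_num⟩
      obtain ⟨c⟩ := psl_congr (ZMod.ringEquivOfPrime F (by norm_num) h5).symm
      exact equiv_perm_five N hidx hCN (f.trans c)
    · right
      haveI : Fact (Nat.Prime 7) := ⟨by norm_num⟩
      obtain ⟨c⟩ := psl_congr (ZMod.ringEquivOfPrime F (by norm_num) h7).symm
      obtain ⟨hcard, ⟨g⟩⟩ := card_aut_PSL 7 (by norm_num)
      obtain ⟨g'⟩ := equiv_aut N hidx hCN (f.trans c) hcard
      exact ⟨g'.trans g⟩
  · exfalso
    obtain ⟨f0⟩ := hf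
    let f : N ≃* alternatingGroup (Fin 7) := e0.symm.trans f0
    obtain ⟨s0, hs0, hs0c, hs0d⟩ := exists_seven
    set t : G := ((f.symm s0 : N) : G) with ht
    have htN : t ∈ N := (f.symm s0).2
    have ht2 : orderOf t = 2 := by rw [ht, Subgroup.orderOf_coe, f.symm.orderOf_eq, hs0]
    have hint : ∀ v ∈ N, orderOf v = 2 → IsConj t v := fun v hv hv2 =>
      (hin t htN ht2).symm.trans (hin v hv hv2)
    obtain ⟨hCt, hDt⟩ := count_inner (N := N) htN
    have hct : Nat.card (centralizer ({(⟨t, htN⟩ : N)} : Set N)) = 24 := by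
      rw [← hs0c]
      refine Nat.card_congr (f.toEquiv.subtypeEquiv fun x => ?_)
      simp only [mem_centralizer_singleton_iff, MulEquiv.toEquiv_eq_coe, MulEquiv.coe_toEquiv]
      rw [← f.injective.eq_iff, map_mul, map_mul]
      simp [ht]
    have hdt : {x : N | x * ⟨t, htN⟩ = ⟨t, htN⟩ * x ∧ orderOf x = 2 ∧ x ≠ ⟨t, htN⟩}.ncard ≤ 8 := by
      refine le_trans (le_of_eq ?_) hs0d
      rw [← Set.ncard_image_of_injective _ f.injective]
      congr 1
      ext y
      obtain ⟨x, rfl⟩ := f.surjective y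
      simp only [Set.mem_image, Set.mem_ofPred_eq, f.injective.eq_iff, exists_eq_right, f.orderOf_eq]
      rw [show (⟨t, htN⟩ : N) = f.symm s0 from Subtype.ext ht]
      rw [← f.injective.eq_iff (a := x * f.symm s0), map_mul, map_mul, f.apply_symm_apply,
        ← f.injective.ne_iff (x := x), f.apply_symm_apply]
    rw [hidx, hct] at hCt
    have key' := card_le N hidx z t hz2 hzN ht2 htN hint hout 12 hB 8 (by rw [hDt]; exact hdt)
    rw [hC, hA] at key'
    have hG : Nat.card G = 5040 := by
      rw [← hN2, Nat.card_congr f.toEquiv, nat_card_alternatingGroup, Nat.card_fin]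
      rfl
    omega

/-- The stabiliser is dihedral of order twelve. -/
theorem dsix {A : Subgroup G} (h : Prim A) (e : A ≃* DihedralGroup 6) :
    Nonempty (G ≃* Equiv.Perm (Fin 5)) ∨
      Nonempty (G ≃* GL (Fin 2) (ZMod 7) ⧸ Subgroup.center (GL (Fin 2) (ZMod 7))) ∨
      Nonempty (G ≃* Matrix.ProjectiveSpecialLinearGroup (Fin 2) (ZMod 11)) ∨
      Nonempty (G ≃* Matrix.ProjectiveSpecialLinearGroup (Fin 2) (ZMod 13)) := by
  by_cases hno : ∀ N : Subgroup G, N.Normal → N ≠ ⊥ → ((e.symm (r 3) : A) : G) ∈ N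
  · exact Or.inr (Or.inr (dsix_simple h e hno))
  · push Not at hno
    obtain ⟨N, hN, hNb, hzN⟩ := hno
    haveI := hN
    rcases dsix_index h e N hNb hzN with h1 | h1
    · exact Or.inl h1
    · exact Or.inr (Or.inl h1)

end Cfsg.Agent.H70.SubThree
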