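import Mathlib.GroupTheory.SpecificGroups.Dihedral
import Mathlib.GroupTheory.Index

/-!
# Facts on the dihedral group of order twelve
-/

set_option autoImplicit false

namespace Cfsg.Agent.H70.SubThree

open DihedralGroup

/-- A normal subgroup with a reflection contains `r 2`. -/
theorem dsix_rot {K : Subgroup (DihedralGroup 6)} [K.Normal] {i : ZMod 6} (h : sr i ∈ K) :
    r 2 ∈ K := by
  have h1 := K.mul_mem (Subgroup.Normal.conj_mem ‹K.Normal› _ h (r 1)) h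
  rwa [r_mul_sr, inv_r, sr_mul_r, sr_mul_sr, show i - (i - 1 + -1) = 2 by ring] at h1

theorem dsix_cover : ∀ (i : ZMod 6) (g : DihedralGroup 6),
    (g = 1 ∨ g = r 2 ∨ g = r 4 ∨ g = sr i ∨ g = sr i * r 2 ∨ g = sr i * r 4) ∨
    (g * r 3 = 1 ∨ g * r 3 = r 2 ∨ g * r 3 = r 4 ∨ g * r 3 = sr i ∨ g * r 3 = sr i * r 2 ∨
      g * r 3 = sr i * r 4) := by decide +kernel

theorem dsix_centralizer : ∀ (i : ZMod 6) (g : DihedralGroup 6),
    g * r 2 = r 2 * g → g * sr i = sr i * g → g = 1 ∨ g = r 3 := by decide +kernel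

theorem dsix_invol : ∀ g : DihedralGroup 6, g * g = 1 → g = 1 ∨ g = r 3 ∨ ∃ i, g = sr i := by
  decide +kernel

theorem dsix_central : ∀ g : DihedralGroup 6, g * r 3 = r 3 * g := by decide +kernel

theorem dsix_rotations : ∀ g : DihedralGroup 6, (∀ i, g ≠ sr i) →
    g ∈ Subgroup.zpowers (r (1 : ZMod 6)) := by
  rintro (i | i) h
  · exact ⟨i.val, by simp⟩
  · exact absurd rfl (h i)

theorem dsix_outer_count : ∀ i : ZMod 6,
    (Finset.univ.filter fun p : DihedralGroup 6 × DihedralGroup 6 =>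
      (p.1 * p.1 = 1 ∧ ¬ (p.1 = 1 ∨ p.1 = r 2 ∨ p.1 = r 4 ∨ p.1 = sr i ∨ p.1 = sr i * r 2 ∨ p.1 = sr i * r 4)) ∧
      (p.2 * p.2 = 1 ∧ p.2 ≠ 1 ∧
        (p.2 = 1 ∨ p.2 = r 2 ∨ p.2 = r 4 ∨ p.2 = sr i ∨ p.2 = sr i * r 2 ∨ p.2 = sr i * r 4))).card = 12 := by
  decide +kernel

/-- A normal subgroup with a reflection and without `r 3` has index two. -/
theorem dsix_index_two {K : Subgroup (DihedralGroup 6)} [K.Normal] {i : ZMod 6} (h : sr i ∈ K)
    (h3 : r 3 ∉ K) : K.index = 2 ∧ ∀ g, g ∈ K ↔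
      (g = 1 ∨ g = r 2 ∨ g = r 4 ∨ g = sr i ∨ g = sr i * r 2 ∨ g = sr i * r 4) := by
  have h2 := dsix_rot h
  have h4 : r 4 ∈ K := by
    have := K.mul_mem h2 h2
    rwa [r_mul_r, show (2 : ZMod 6) + 2 = 4 by rfl] at this
  have hK : ∀ g, (g = 1 ∨ g = r 2 ∨ g = r 4 ∨ g = sr i ∨ g = sr i * r 2 ∨ g = sr i * r 4) → g ∈ K := by
    rintro g (rfl | rfl | rfl | rfl | rfl | rfl)
    exacts [K.one_mem, h2, h4, h, K.mul_mem h h2, K.mul_mem h h4]
  have hx : ∀ g, g * r 3 ∈ K → g ∉ K := fun g hg hgK => h3 (by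
    have := K.mul_mem (K.inv_mem hgK) hg
    rwa [inv_mul_cancel_left] at this)
  refine ⟨Subgroup.index_eq_two_iff.2 ⟨r 3, fun g => ?_⟩, fun g => ⟨fun hg => ?_, hK g⟩⟩
  · rcases dsix_cover i g with hg | hg
    · exact Or.inr ⟨hK g hg, fun hg' => hx g hg' (hK g hg)⟩
    · exact Or.inl ⟨hK _ hg, hx g (hK _ hg)⟩
  · exact (dsix_cover i g).resolve_right fun hg' => hx g (hK _ hg') hg

end Cfsg.Agent.H70.SubThree
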