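import Cfsg.Agent.H70.SubThree.SDCount
import Cfsg.Agent.S3304
import Cfsg.Agent.H82.DihTransport

/-!
# The centraliser modulo its core: GL(2, 3)
-/

set_option autoImplicit false
set_option linter.style.haveILetI false
set_option linter.unusedSectionVars false

namespace Cfsg.Agent.H70.SubThree

open Subgroup

universe u

variable {H : Type u} [Group H] [Finite H]

/-- A Sylow 2-subgroup of SL(2, q), q odd, is not cyclic. -/
theorem not_cyclic_sylow {L : Type*} [Group L] [Finite L] {F : Type} [Field F] [Fintype F]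
    (hodd : Odd (Fintype.card F)) (e : L ≃* Matrix.SpecialLinearGroup (Fin 2) F) (R : Sylow 2 L) :
    ¬ IsCyclic ↥(R : Subgroup L) := by
  intro hR
  haveI : Fact (Nat.Prime 2) := ⟨Nat.prime_two⟩
  have h2 := Linear.two_ne_zero_of_odd_card hodd
  obtain ⟨g, hg⟩ : ∃ g : Matrix.SpecialLinearGroup (Fin 2) F, g * g = -1 :=
    ⟨⟨!![0, -1; 1, 0], by simp [Matrix.det_fin_two]⟩, Subtype.ext (by
      show (!![(0 : F), -1; 1, 0] * !![0, -1; 1, 0]) = -1
      rw [Matrix.mul_fin_two]
      ext i j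
      fin_cases i <;> fin_cases j <;> simp)⟩
  obtain ⟨t0, t4⟩ := S0809.trace_of_sq_neg_one h2 hg
  obtain ⟨h, hh⟩ := Linear.exists_inverter t4
  obtain ⟨P, K, hK, hKP⟩ := H63.GW.hasNormalPComplement_of_cyclic R
  haveI : IsCyclic ↥(P : Subgroup L) := (Sylow.equiv P R).isCyclic.2 hR
  have hcomm : ∀ a b : L ⧸ K, a * b = b * a := by
    have hs : ∀ a : L ⧸ K, ∃ r ∈ (P : Subgroup L), QuotientGroup.mk' K r = a := by
      intro a
      obtain ⟨x, rfl⟩ := QuotientGroup.mk'_surjective K a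
      obtain ⟨⟨⟨k, hk⟩, ⟨r, hr⟩⟩, hx, -⟩ := hKP.existsUnique x
      refine ⟨r, hr, ?_⟩
      rw [← hx, map_mul, (QuotientGroup.eq_one_iff k).2 hk |> fun e => (show QuotientGroup.mk' K k = 1 from e),
        one_mul]
    intro a b
    obtain ⟨r, hr, rfl⟩ := hs a
    obtain ⟨r', hr', rfl⟩ := hs b
    rw [← map_mul, ← map_mul]
    obtain ⟨c, hc⟩ := IsCyclic.exists_generator (α := ↥(P : Subgroup L))
    obtain ⟨i, hi⟩ := mem_zpowers_iff.1 (hc ⟨r, hr⟩)
    obtain ⟨j, hj⟩ := mem_zpowers_iff.1 (hc ⟨r', hr'⟩)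
    have := congrArg Subtype.val (zpow_mul_comm c i j)
    rw [hi, hj] at this
    exact congrArg _ this
  set π := QuotientGroup.mk' K
  have h1 : π (e.symm (g⁻¹)) = π (e.symm g) := by
    rw [← hh, map_mul, map_mul, map_mul, map_mul, hcomm, ← mul_assoc, ← map_mul π, ← map_mul e.symm,
      inv_mul_cancel, map_one, map_one, one_mul]
  rw [map_inv, map_inv, inv_eq_iff_mul_eq_one, ← map_mul, ← map_mul, hg, ← MonoidHom.mem_ker,
    QuotientGroup.ker_mk'] at h1
  have hord : orderOf (e.symm (-1)) = 2 := by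
    rw [e.symm.orderOf_eq]
    exact H39.orderOf_eq_two_of_mul_self (by rw [neg_mul, mul_neg, neg_neg, mul_one])
      (S0809.neg_one_ne_one h2)
  have hd : 2 ∣ Nat.card K := by
    rw [← hord, ← Subgroup.orderOf_mk (e.symm (-1)) h1]
    exact orderOf_dvd_natCard _
  rw [← hKP.index_eq_card] at hd
  exact P.not_dvd_index' index_ne_zero_of_finite hd

theorem q8_closed : ∀ a b : Matrix.SpecialLinearGroup (Fin 2) (ZMod 3),
    a * a * (a * a) = 1 → b * b * (b * b) = 1 → a * b * (a * b) * (a * b * (a * b)) = 1 := by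
  decide +kernel

theorem f0_range : ∀ a : Matrix.SpecialLinearGroup (Fin 2) (ZMod 3),
    a * a * (a * a) = 1 ↔ ∃ x, S3304.f0 x = a := by decide +kernel

/-- The image of the centraliser of an involution modulo its core. -/
theorem model_of_sd (T : Sylow 2 H) (hT : Cfsg.IsQuasiDihedral ↥(T : Subgroup H))
    (hO : Cfsg.oddCore H = ⊥) (L : Subgroup H) [L.Normal] {F : Type} [Field F] [Fintype F]
    (hodd : Odd (Fintype.card F)) (e : L ≃* Matrix.SpecialLinearGroup (Fin 2) F) (z u : H)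
    (hz : orderOf z = 2) (hzc : ∀ g, g * z = z * g) (hu : orderOf u = 2) (hne : u ≠ z)
    (huT : u ∈ (T : Subgroup H)) (hcu : Nat.card (centralizer ({u} : Set H)) ≤ 4) :
    Nonempty (H ≃* S3304.Model48) := by
  classical
  haveI : Fact (Nat.Prime 2) := ⟨Nat.prime_two⟩
  haveI : Fact (Nat.Prime 3) := ⟨Nat.prime_three⟩
  have h2 := Linear.two_ne_zero_of_odd_card hodd
  obtain ⟨m, x, y, h⟩ := H39.exists_sdGen hT
  have hcz : ∀ w : H, orderOf w = 2 → (∀ g, g * w = w * g) →
      ∃ hw : w ∈ (T : Subgroup H), (⟨w, hw⟩ : ↥(T : Subgroup H)) = x ^ (4 * 2 ^ m : ℤ) := by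
    intro w hw hwc
    haveI : (zpowers w).Normal := ⟨fun a ha g => by
      obtain ⟨k, rfl⟩ := mem_zpowers_iff.1 ha
      rw [((show Commute g w from hwc g).zpow_right k).eq, mul_inv_cancel_right]
      exact ha⟩
    have hwT : w ∈ (T : Subgroup H) :=
      (IsPGroup.of_card (p := 2) (n := 1) (by rw [Nat.card_zpowers, hw, pow_one])).le_sylow_of_normal T
        (mem_zpowers w)
    exact ⟨hwT, central_invol h (by rwa [← Subgroup.orderOf_coe]) fun a => Subtype.ext (hwc a)⟩
  obtain ⟨hzT, hzx⟩ := hcz z hz hzc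
  have hord1 : orderOf (-1 : Matrix.SpecialLinearGroup (Fin 2) F) = 2 :=
    H39.orderOf_eq_two_of_mul_self (by rw [neg_mul, mul_neg, neg_neg, mul_one])
      (S0809.neg_one_ne_one h2)
  have huniq0 : ∀ l ∈ L, orderOf l = 2 → l = (e.symm (-1) : H) := by
    intro l hl hl2
    have hl' : orderOf (e ⟨l, hl⟩) = 2 := by rwa [e.orderOf_eq, ← Subgroup.orderOf_coe]
    rcases Linear.eq_one_or_neg_one_of_sq h2 (H39.mul_self_of_orderOf_eq_two hl') with h | h
    · rw [h, orderOf_one] at hl'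
      omega
    · rw [← h, e.symm_apply_apply]
  have hz' : orderOf (e.symm (-1) : H) = 2 := by rw [Subgroup.orderOf_coe, e.symm.orderOf_eq, hord1]
  have hzL' := (e.symm (-1)).2
  obtain ⟨hz'T, hz'x⟩ := hcz _ hz' (central_of_unique hzL' hz' huniq0)
  have hzeq : (e.symm (-1) : H) = z := congrArg Subtype.val (hz'x.trans hzx.symm)
  have huniq : ∀ l ∈ L, orderOf l = 2 → l = z := fun l hl h' => (huniq0 l hl h').trans hzeq
  have hzL : z ∈ L := hzeq ▸ hzL'
  have huL : u ∉ L := fun hl => hne (huniq u hl hu)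
  -- the Sylow subgroup lies in `L⟨u⟩`
  obtain ⟨R, hR⟩ := Thompson.exists_sylow_inf_normal T L
  set Q := L.subgroupOf (T : Subgroup H) with hQ
  haveI : Q.Normal := Normal.subgroupOf ‹_› _
  have hRQ : (R : Subgroup L).map L.subtype = Q.map (T : Subgroup H).subtype := by
    rw [hR, hQ, subgroupOf_map_subtype, inf_comm]
  obtain ⟨i, hi⟩ : ∃ i : ℤ, x ^ i * y ∈ Q := by
    by_contra hcon
    push Not at hcon
    have hle : Q ≤ zpowers x := fun g hg => by
      rcases h.cases_elem g with ⟨i, rfl⟩ | ⟨i, rfl⟩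
      · exact zpow_mem (mem_zpowers x) i
      · exact absurd hg (hcon i)
    apply not_cyclic_sylow hodd e R
    haveI : IsCyclic Q := isCyclic_of_injective (inclusion hle) (inclusion_injective hle)
    have hc : IsCyclic ↥((R : Subgroup L).map L.subtype) := by
      rw [hRQ]
      exact isCyclic_of_surjective _ ((T : Subgroup H).subtype.subgroupMap_surjective Q)
    exact ((R : Subgroup L).equivMapOfInjective L.subtype Subtype.val_injective).isCyclic.2 hc
  have hxx : x ^ (2 - 4 * 2 ^ m : ℤ) ∈ Q := by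
    have h1 := mul_mem (Normal.conj_mem ‹Q.Normal› _ hi (x ^ (1 : ℤ))) (inv_mem hi)
    rwa [h.conj_out, h.out_inv, h.out_mul_out,
      show i + 1 * (2 - 4 * 2 ^ m) + -i * (4 * 2 ^ m - 1) * (4 * 2 ^ m - 1) =
        2 - 4 * 2 ^ m + i * (1 - (4 * 2 ^ m - 1) * (4 * 2 ^ m - 1)) by ring,
      show x ^ (2 - 4 * 2 ^ m + i * (1 - (4 * 2 ^ m - 1) * (4 * 2 ^ m - 1)) : ℤ) =
        x ^ (2 - 4 * 2 ^ m : ℤ) by rw [h.zpow_eq]; exact ⟨i * (1 - 2 * 2 ^ m), by ring⟩] at h1
  have hx2 : ∀ j : ℤ, x ^ (2 * j) ∈ Q := fun j => by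
    have h1 := Q.zpow_mem hxx (j * (1 + 2 * 2 ^ m))
    rwa [← zpow_mul, show x ^ ((2 - 4 * 2 ^ m) * (j * (1 + 2 * 2 ^ m)) : ℤ) = x ^ (2 * j) by
      rw [h.zpow_eq]; exact ⟨-(j * 2 ^ m), by ring⟩] at h1
  obtain ⟨k, hk⟩ : ∃ k : ℤ, (⟨u, huT⟩ : ↥(T : Subgroup H)) = x ^ (2 * k) * y :=
    (h.mem_ord_two _ (by rwa [← Subgroup.orderOf_coe])).resolve_left fun e' => hne
      (congrArg Subtype.val (e'.trans hzx.symm))
  have hiodd : ∀ j, i ≠ 2 * j := fun j hj => huL (by
    have h1 := mul_mem (hx2 (k - j)) hi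
    rw [hj, ← mul_assoc, ← zpow_add, show 2 * (k - j) + 2 * j = 2 * k by ring, ← hk] at h1
    exact h1)
  set Y := L ⊔ zpowers u with hY
  have hLY : L ≤ Y := le_sup_left
  have huY : u ∈ Y := mem_sup_right (mem_zpowers u)
  have hTY : (T : Subgroup H) ≤ Y := by
    intro g hg
    have key : ∀ g' : ↥(T : Subgroup H), g' ∈ Q ∨ g' * ⟨u, huT⟩ ∈ Q := by
      intro g'
      rcases h.cases_elem g' with ⟨r, rfl⟩ | ⟨r, rfl⟩ <;> rcases Int.even_or_odd' r with ⟨j, rfl | rfl⟩
      · exact Or.inl (hx2 j)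
      · right
        obtain ⟨i', hi'⟩ : ∃ i', i = 2 * i' + 1 := by
          rcases Int.even_or_odd' i with ⟨i', e' | e'⟩
          · exact absurd e' (hiodd i')
          · exact ⟨i', e'⟩
        rw [hk, ← mul_assoc, ← zpow_add]
        have h1 := mul_mem (hx2 (j + k - i')) hi
        rwa [← mul_assoc, ← zpow_add, hi',
          show 2 * (j + k - i') + (2 * i' + 1) = 2 * j + 1 + 2 * k by ring] at h1
      · right
        rw [hk, h.out_mul_out, show 2 * j + 2 * k * (4 * 2 ^ m - 1) =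
          2 * (j + k * (4 * 2 ^ m - 1)) by ring]
        exact hx2 _
      · left
        obtain ⟨i', hi'⟩ : ∃ i', i = 2 * i' + 1 := by
          rcases Int.even_or_odd' i with ⟨i', e' | e'⟩
          · exact absurd e' (hiodd i')
          · exact ⟨i', e'⟩
        have h1 := mul_mem (hx2 (j - i')) hi
        rwa [← mul_assoc, ← zpow_add, hi',
          show 2 * (j - i') + (2 * i' + 1) = 2 * j + 1 by ring] at h1
    rcases key ⟨g, hg⟩ with h' | h'
    · exact hLY h'
    · have := mul_mem (hLY h') (inv_mem huY)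
      simpa using this
  let T' : Sylow 2 Y := T.subtype hTY
  have hT' : Cfsg.IsQuasiDihedral ↥(T' : Subgroup Y) :=
    H82.Dih.isQuasiDihedral_of_equiv (subgroupOfEquivOfLe hTY).symm hT
  haveI : (L.subgroupOf Y).Normal := Normal.subgroupOf ‹_› _
  have hLY2 : (L.subgroupOf Y).index = 2 := by
    rw [← relIndex, hY, sup_comm, relIndex_sup_right]
    have h1 := (L.subgroupOf (zpowers u)).card_mul_index
    have hbot : L.subgroupOf (zpowers u) = ⊥ := by
      rw [eq_bot_iff]
      intro a ha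
      obtain ⟨r, hr⟩ := mem_zpowers_iff.1 a.2
      rcases Int.even_or_odd' r with ⟨r', e' | e'⟩
      · rw [e', zpow_mul, zpow_two, H39.mul_self_of_orderOf_eq_two hu, one_zpow] at hr
        exact mem_bot.2 (Subtype.ext hr.symm)
      · rw [e', zpow_add_one, zpow_mul, zpow_two, H39.mul_self_of_orderOf_eq_two hu, one_zpow,
          one_mul] at hr
        exact absurd (hr ▸ mem_subgroupOf.1 ha) huL
    rw [hbot, card_bot, one_mul, Nat.card_zpowers, hu] at h1
    rw [relIndex, hbot]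
    exact h1
  have hcY : Nat.card (centralizer ({(⟨u, huY⟩ : Y)} : Set Y)) ≤ 4 := by
    refine le_trans (Nat.card_le_card_of_injective
      (fun c : centralizer ({(⟨u, huY⟩ : Y)} : Set Y) =>
        (⟨c.1.1, ?_⟩ : centralizer ({u} : Set H))) fun a b e' => by
      exact Subtype.ext (Subtype.ext (congrArg Subtype.val e' :))) hcu
    exact mem_centralizer_singleton_iff.2
      (congrArg Subtype.val (mem_centralizer_singleton_iff.1 c.2) :)
  have h3 : Fintype.card F = 3 := card_field_eq_three T' hT' (L.subgroupOf Y) hLY2 hodd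
    ((subgroupOfEquivOfLe hLY).trans e) ⟨u, huY⟩ (by rwa [← Subgroup.orderOf_coe])
    (mem_subgroupOf.2 huT) (fun h' => huL h') hcY
  -- the quaternion subgroup
  let r : ZMod 3 ≃+* F := ZMod.ringEquivOfPrime F Nat.prime_three h3
  let e3 : L ≃* Matrix.SpecialLinearGroup (Fin 2) (ZMod 3) := e.trans
    (MulEquiv.ofBijective (Matrix.SpecialLinearGroup.map (n := Fin 2) r.symm.toRingHom)
      ⟨fun a b e' => by
        have := congrArg (Matrix.SpecialLinearGroup.map (n := Fin 2) r.toRingHom) e'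
        simpa [Matrix.SpecialLinearGroup.ext_iff, Matrix.SpecialLinearGroup.map_apply_coe,
          RingHom.mapMatrix_apply] using this,
      fun b => ⟨Matrix.SpecialLinearGroup.map (n := Fin 2) r.toRingHom b, by
        ext i j
        simp [Matrix.SpecialLinearGroup.map_apply_coe, RingHom.mapMatrix_apply]⟩⟩)
  let ι8 : QuaternionGroup 2 →* H := L.subtype.comp (e3.symm.toMonoidHom.comp S3304.f0)
  have hι : Function.Injective ι8 :=
    L.subtype_injective.comp (e3.symm.injective.comp S3304.f0_inj)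
  set F8 := ι8.range with hF8
  have hmem : ∀ g : H, g ∈ F8 ↔ g ∈ L ∧ g * g * (g * g) = 1 := by
    intro g
    constructor
    · rintro ⟨a, rfl⟩
      refine ⟨(e3.symm (S3304.f0 a)).2, ?_⟩
      have h1 := congrArg (fun l => ((e3.symm l : L) : H)) ((f0_range _).2 ⟨a, rfl⟩)
      simpa [map_mul, ι8] using h1
    · rintro ⟨hgL, hg4⟩
      obtain ⟨a, ha⟩ := (f0_range (e3 ⟨g, hgL⟩)).1 (by
        rw [← map_mul, ← map_mul, show (⟨g, hgL⟩ : L) * ⟨g, hgL⟩ * (⟨g, hgL⟩ * ⟨g, hgL⟩) = 1 from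
          Subtype.ext hg4, map_one])
      refine ⟨a, ?_⟩
      show ((e3.symm (S3304.f0 a) : L) : H) = g
      rw [ha, e3.symm_apply_apply]
  haveI : F8.Normal := ⟨fun g hg c => by
    rw [hmem] at hg ⊢
    refine ⟨Normal.conj_mem ‹L.Normal› g hg.1 c, ?_⟩
    rw [conj_mul, conj_mul, hg.2, mul_one, mul_inv_cancel]⟩
  have hF8c : Nat.card F8 = 8 := by
    rw [← Nat.card_congr (MonoidHom.ofInjective hι).toEquiv, Nat.card_eq_fintype_card,
      QuaternionGroup.card]
  have hF8T : F8 ≤ (T : Subgroup H) :=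
    (IsPGroup.of_card (p := 2) (n := 3) (hF8c.trans (by norm_num))).le_sylow_of_normal T
  have hzF : z ∈ F8 := (hmem z).2 ⟨hzL, by
    rw [H39.mul_self_of_orderOf_eq_two hz, mul_one]⟩
  set P := centralizer (F8 : Set H) with hP
  -- noncommuting elements of the quaternion group
  obtain ⟨a, b, hab⟩ : ∃ a b : QuaternionGroup 2, a * b ≠ b * a := by decide
  have hPT : ∀ c : ↥(T : Subgroup H), (c : H) ∈ P → c = 1 ∨ c = x ^ (4 * 2 ^ m : ℤ) := by
    intro c hc
    have hcc : ∀ g : ↥(T : Subgroup H), (g : H) ∈ F8 → g * c = c * g := fun g hg =>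
      Subtype.ext (mem_centralizer_iff.1 hc _ hg)
    set a' : ↥(T : Subgroup H) := ⟨ι8 a, hF8T ⟨a, rfl⟩⟩ with ha'
    set b' : ↥(T : Subgroup H) := ⟨ι8 b, hF8T ⟨b, rfl⟩⟩ with hb'
    have hab' : a' * b' ≠ b' * a' := fun e' => hab (hι (by
      rw [map_mul, map_mul]; exact congrArg Subtype.val e'))
    rcases h.cases_elem c with ⟨j, rfl⟩ | ⟨j, rfl⟩
    · have key : ∀ g : ↥(T : Subgroup H), (g : H) ∈ F8 → (∃ r : ℤ, g = x ^ r * y) →
          x ^ j = 1 ∨ x ^ j = x ^ (4 * 2 ^ m : ℤ) := by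
        rintro g hg ⟨r, rfl⟩
        exact h.commute_out_in (i := r) (by rw [← hcc _ hg, mul_inv_cancel_right])
      rcases h.cases_elem a' with ⟨p, hp⟩ | hp
      · rcases h.cases_elem b' with ⟨q, hq⟩ | hq
        · exact absurd (by rw [hp, hq, ← zpow_add, ← zpow_add, add_comm]) hab'
        · exact key b' ⟨b, rfl⟩ hq
      · exact key a' ⟨a, rfl⟩ hp
    · exfalso
      -- `c` outside centralises only the centre of the cyclic subgroup
      have key : ∀ g : ↥(T : Subgroup H), (g : H) ∈ F8 → ∀ r : ℤ, g = x ^ r →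
          g = 1 ∨ g = x ^ (4 * 2 ^ m : ℤ) := by
        rintro g hg r rfl
        exact h.commute_out_in (i := j) (by rw [hcc _ hg, mul_inv_cancel_right])
      have hcom : ∀ g, g = 1 ∨ g = x ^ (4 * 2 ^ m : ℤ) → ∀ g' : ↥(T : Subgroup H),
          g * g' = g' * g := by
        rintro g (rfl | rfl) g'
        · rw [one_mul, mul_one]
        · exact (h.z_central g').symm
      rcases h.cases_elem a' with ⟨p, hp⟩ | ⟨p, hp⟩
      · exact hab' (hcom a' (key a' ⟨a, rfl⟩ p hp) b')
      rcases h.cases_elem b' with ⟨q, hq⟩ | ⟨q, hq⟩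
      · exact hab' (hcom b' (key b' ⟨b, rfl⟩ q hq) a').symm
      obtain ⟨w, hw⟩ : ∃ w : ℤ, a' * b' = x ^ w := ⟨_, by rw [hp, hq, h.out_mul_out]⟩
      have h1 := hcom _ (key (a' * b') (mul_mem (⟨a, rfl⟩ : (a' : H) ∈ F8) ⟨b, rfl⟩) w hw) a'
      refine hab' ?_
      have h1' : a' * (b' * a') = a' * (a' * b') := by rw [← mul_assoc]; exact h1
      exact (mul_left_cancel h1').symm
  have hPz : P = zpowers z := by
    haveI : P.Normal := inferInstance
    have hzP : zpowers z ≤ P := zpowers_le.2 (mem_centralizer_iff.2 fun g _ => hzc g)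
    obtain ⟨RP, hRP⟩ := Thompson.exists_sylow_inf_normal T P
    have hinf : (T : Subgroup H) ⊓ P = zpowers z := by
      refine le_antisymm ?_ (le_inf (zpowers_le.2 hzT) hzP)
      rintro g ⟨hgT, hgP⟩
      rcases hPT ⟨g, hgT⟩ hgP with e' | e'
      · rw [show g = 1 from congrArg Subtype.val e']; exact one_mem _
      · rw [show g = z from congrArg Subtype.val (e'.trans hzx.symm)]; exact mem_zpowers z
    haveI : IsCyclic ↥(RP : Subgroup P) := by
      haveI : IsCyclic ↥((RP : Subgroup P).map P.subtype) := by rw [hRP, hinf]; infer_instance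
      exact ((RP : Subgroup P).equivMapOfInjective P.subtype P.subtype_injective).isCyclic.2 ‹_›
    obtain ⟨R', K, hKn, hK⟩ := H63.GW.hasNormalPComplement_of_cyclic RP
    have hKo : Odd (Nat.card K) := by
      rw [← hK.index_eq_card]
      exact Nat.odd_iff.2 (Nat.two_dvd_ne_zero.1 (R'.not_dvd_index' index_ne_zero_of_finite))
    have hKb : K = ⊥ := by
      have h1 : K ≤ Cfsg.oddCore P := Cores.le_oddCore hKo
      have h2' : (Cfsg.oddCore P).map P.subtype ≤ Cfsg.oddCore H := by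
        haveI : ((Cfsg.oddCore P).map P.subtype).Normal := ConjAct.normal_of_characteristic_of_normal
        exact Cores.le_oddCore (by rw [card_subtype]; exact Cores.odd_card_oddCore)
      rw [hO, le_bot_iff, map_eq_bot_iff_of_injective _ P.subtype_injective] at h2'
      exact le_bot_iff.1 (h2' ▸ h1)
    have hcard : Nat.card P = 2 := by
      have h1 := hK.card_mul_card
      rw [hKb, card_bot, one_mul, R'.card_eq_multiplicity, ← RP.card_eq_multiplicity,
        ← card_subtype P, hRP, hinf, Nat.card_zpowers, hz] at h1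
      exact h1.symm
    exact (eq_of_le_of_card_ge hzP (by rw [hcard, Nat.card_zpowers, hz])).symm
  have hC : centralizer (F8 : Set H) ≤ F8 := by
    rw [← hP, hPz]; exact zpowers_le.2 hzF
  let e8 : F8 ≃* QuaternionGroup 2 := (MonoidHom.ofInjective hι).symm
  have hcard48 : Nat.card H = 48 := by
    have hle : Nat.card H ≤ 48 := by
      have hk : (S3304.psi e8).ker = centralizer (F8 : Set H) := by
        ext g; exact S3304.psi_eq_one e8 g
      have h1 := (S3304.psi e8).ker.card_mul_index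
      rw [index_ker, hk, S3304.card_centralizer hC e8] at h1
      have h2' : Nat.card (S3304.psi e8).range ≤ 24 :=
        (card_le_card_group _).trans (by rw [Nat.card_perm, Nat.card_fin]; decide)
      omega
    have hL24 : Nat.card L = 24 := by
      rw [Nat.card_congr e3.toEquiv, Nat.card_eq_fintype_card]
      decide +kernel
    have hL2 : Nat.card Y = 48 := by
      rw [← (L.subgroupOf Y).card_mul_index, Nat.card_congr (subgroupOfEquivOfLe hLY).toEquiv,
        hL24, hLY2]
    have := Y.card_le_card_group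
    omega
  exact S3304.iso_model hcard48 hC e8 (H39.mul_self_of_orderOf_eq_two hu)
    (fun h' => huL ((hmem u).1 h').1)

end Cfsg.Agent.H70.SubThree
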