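import Cfsg.Agent.H70.SubThree.SDModel
import Cfsg.Agent.H70.SemiCore.Apply
import Cfsg.Agent.S1240

/-!
# Simple groups with semidihedral Sylow 2-subgroups and a small intersection of centralisers
-/

set_option autoImplicit false
set_option linter.style.haveILetI false
set_option linter.unusedSectionVars false

namespace Cfsg.Agent.H70.SubThree

open Subgroup Cfsg.Agent.H23.GL23
open scoped Pointwise

universe u

variable {G : Type u} [Group G] [Finite G]

/-- The group is L₃(3) or M₁₁. -/
theorem semidihedral [IsSimpleGroup G] (hna : ¬ IsMulCommutative G) (S : Sylow 2 G)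
    (hS : Cfsg.IsQuasiDihedral ↥(S : Subgroup G)) {t u : G} (ht : orderOf t = 2)
    (hu : orderOf u = 2) (htu : t * u = u * t) (hne : t ≠ u)
    (hc : Nat.card ↥(centralizer ({t} : Set G) ⊓ centralizer ({u} : Set G)) = 4) :
    Nonempty (G ≃* Matrix.ProjectiveSpecialLinearGroup (Fin 3) (ZMod 3)) ∨ Cfsg.Spor.IsoM11 G := by
  classical
  haveI : Fact (Nat.Prime 2) := ⟨Nat.prime_two⟩
  haveI : Fintype G := Fintype.ofFinite G
  have hone := one_class hna S (MaxClass.exists_cyclic (Or.inr hS))
  obtain ⟨m, x, y, hxy⟩ := H39.exists_sdGen hS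
  set C := centralizer ({t} : Set G) with hC
  set z0 : G := ((x ^ (4 * 2 ^ m : ℤ) : ↥(S : Subgroup G)) : G) with hz0
  -- a Sylow subgroup of the centraliser is a Sylow subgroup of the group
  obtain ⟨g, hg⟩ := isConj_iff.1 (hone z0 t (by rw [hz0, Subgroup.orderOf_coe, hxy.orderOf_z]) ht)
  have hgS : ((g • S : Sylow 2 G) : Subgroup G) ≤ C := by
    intro a ha
    obtain ⟨s, hs, rfl⟩ := ha
    refine mem_centralizer_singleton_iff.2 ?_
    have h1 : s * z0 = z0 * s := congrArg Subtype.val (hxy.z_central ⟨s, hs⟩)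
    rw [← hg]
    show g * s * g⁻¹ * (g * z0 * g⁻¹) = g * z0 * g⁻¹ * (g * s * g⁻¹)
    rw [show g * s * g⁻¹ * (g * z0 * g⁻¹) = g * (s * z0) * g⁻¹ by group, h1]
    group
  let tc : C := ⟨t, mem_centralizer_singleton_iff.2 rfl⟩
  let uc : C := ⟨u, mem_centralizer_singleton_iff.2 htu.symm⟩
  have htc : orderOf tc = 2 := by rw [← Subgroup.orderOf_coe]; exact ht
  have huc : orderOf uc = 2 := by rw [← Subgroup.orderOf_coe]; exact hu
  obtain ⟨T, hT⟩ := (IsPGroup.of_card (p := 2) (n := 1) (by rw [Nat.card_zpowers, huc, pow_one]) :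
    IsPGroup 2 ↥(zpowers uc)).exists_le_sylow
  have huT : uc ∈ (T : Subgroup C) := hT (mem_zpowers uc)
  let S' : Sylow 2 C := (g • S).subtype hgS
  have hTqd : Cfsg.IsQuasiDihedral ↥(T : Subgroup C) :=
    H82.Dih.isQuasiDihedral_of_equiv (((Sylow.equiv S (g • S)).trans
      (subgroupOfEquivOfLe hgS).symm).trans (Sylow.equiv S' T)) hS
  -- the quotient by the core
  set O := Cfsg.oddCore C with hO
  set π := QuotientGroup.mk' O with hπ
  have hπs : Function.Surjective π := QuotientGroup.mk'_surjective O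
  have hker : π.ker = O := QuotientGroup.ker_mk' _
  have hOodd : Odd (Nat.card O) := Cores.odd_card_oddCore
  have hno2 : ∀ o : C, o ∈ O → orderOf o ≠ 2 := by
    intro o ho h2
    have h1 : orderOf o ∣ Nat.card O := by
      rw [← Subgroup.orderOf_mk o ho]
      exact orderOf_dvd_natCard _
    rw [h2] at h1
    exact Nat.not_even_iff_odd.2 hOodd (even_iff_two_dvd.2 h1)
  have hinv : ∀ w : C, orderOf w = 2 → orderOf (π w) = 2 := fun w hw =>
    H39.orderOf_eq_two_of_mul_self (by rw [← map_mul, H39.mul_self_of_orderOf_eq_two hw, map_one])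
      fun h => hno2 w (by rw [← hker]; exact MonoidHom.mem_ker.2 h) hw
  have hzc : ∀ q, q * π tc = π tc * q := by
    intro q
    obtain ⟨c, rfl⟩ := hπs q
    rw [← map_mul, ← map_mul]
    exact congrArg π (Subtype.ext (mem_centralizer_singleton_iff.1 c.2))
  have hune : π uc ≠ π tc := by
    intro h
    have h1 : uc * tc ∈ O := by
      rw [← hker, MonoidHom.mem_ker, map_mul, h, ← map_mul, H39.mul_self_of_orderOf_eq_two htc,
        map_one]
    refine hno2 _ h1 (H39.orderOf_eq_two_of_mul_self (Subtype.ext ?_) fun h' => hne ?_)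
    · show u * t * (u * t) = 1
      rw [mul_assoc, ← mul_assoc t u t, htu, mul_assoc, H39.mul_self_of_orderOf_eq_two ht, mul_one,
        H39.mul_self_of_orderOf_eq_two hu]
    · have h2 : u * t = 1 := congrArg Subtype.val h'
      calc t = u * (u * t) := by rw [← mul_assoc, H39.mul_self_of_orderOf_eq_two hu, one_mul]
        _ = u := by rw [h2, mul_one]
  have hCu : Nat.card (centralizer ({uc} : Set C)) = 4 := by
    rw [← hc]
    exact Nat.card_congr
      { toFun := fun c => ⟨c.1.1, ⟨c.1.2, mem_centralizer_singleton_iff.2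
          (congrArg Subtype.val (mem_centralizer_singleton_iff.1 c.2) :)⟩⟩
        invFun := fun c => ⟨⟨c.1, c.2.1⟩, mem_centralizer_singleton_iff.2
          (Subtype.ext (mem_centralizer_singleton_iff.1 c.2.2 :))⟩
        left_inv := fun c => rfl
        right_inv := fun c => rfl }
  have hcu : Nat.card (centralizer ({π uc} : Set (C ⧸ O))) ≤ 4 := by
    refine le_trans (Nat.card_le_card_of_surjective
      (fun c : centralizer ({uc} : Set C) => (⟨π c, mem_centralizer_singleton_iff.2 (by
        rw [← map_mul, ← map_mul, mem_centralizer_singleton_iff.1 c.2])⟩ :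
          centralizer ({π uc} : Set (C ⧸ O)))) ?_) hCu.le
    rintro ⟨q, hq⟩
    obtain ⟨c, rfl⟩ := hπs q
    rw [mem_centralizer_singleton_iff] at hq
    set w := c * uc * c⁻¹ with hw
    have hw2 : orderOf w = 2 := by rw [hw, H39.orderOf_conj, huc]
    have ho : uc * w ∈ O := by
      rw [← hker, MonoidHom.mem_ker, hw, map_mul, map_mul, map_mul, map_inv, hq,
        mul_inv_cancel_right, ← map_mul, H39.mul_self_of_orderOf_eq_two huc, map_one]
    obtain ⟨d, hd, hd'⟩ : ∃ d ∈ O, d * w * d⁻¹ = uc := by
      obtain ⟨d, hd, -, -, hd'⟩ := H39.exists_conj_of_odd hw2 huc (by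
        refine Nat.odd_iff.2 (Nat.two_dvd_ne_zero.1 fun h2 => ?_)
        have h1 : orderOf (uc * w) ∣ Nat.card O := by
          rw [← Subgroup.orderOf_mk _ ho]
          exact orderOf_dvd_natCard _
        exact Nat.not_even_iff_odd.2 hOodd (even_iff_two_dvd.2 (h2.trans h1)))
      exact ⟨d, zpowers_le.2 ho hd, hd'⟩
    refine ⟨⟨d * c, mem_centralizer_singleton_iff.2 (mul_inv_eq_iff_eq_mul.1 ?_)⟩, Subtype.ext ?_⟩
    · calc d * c * uc * (d * c)⁻¹ = d * w * d⁻¹ := by rw [hw]; group
        _ = uc := hd'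
    · show π (d * c) = π c
      rw [map_mul, MonoidHom.mem_ker.1 (hker.symm ▸ hd : d ∈ π.ker), one_mul]
  let TH : Sylow 2 (C ⧸ O) := T.mapSurjective hπs
  have hTH : Cfsg.IsQuasiDihedral ↥(TH : Subgroup (C ⧸ O)) := by
    have hinj : Function.Injective (π.subgroupMap (T : Subgroup C)) := by
      rw [injective_iff_map_eq_one]
      rintro ⟨a, ha⟩ h
      refine Subtype.ext ?_
      have hd : a ∈ O := by rw [← hker]; exact (congrArg Subtype.val h :)
      have h1 := disjoint_of_coprime_natCard (H := (T : Subgroup C)) (K := O) (by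
        rw [T.card_eq_multiplicity]
        exact (Nat.coprime_two_left.2 hOodd).pow_left _)
      exact disjoint_def.1 h1 ha hd
    exact H82.Dih.isQuasiDihedral_of_equiv
      (MulEquiv.ofBijective _ ⟨hinj, π.subgroupMap_surjective _⟩) hTqd
  have hOH : Cfsg.oddCore (C ⧸ O) = ⊥ := by
    have h1 : (Cfsg.oddCore (C ⧸ O)).comap π ≤ O := Cores.le_oddCore (by
      have h1 := card_map_mul π ((Cfsg.oddCore (C ⧸ O)).comap π) (fun a ha => by
        rw [mem_comap, MonoidHom.mem_ker.1 ha]; exact one_mem _)
      rw [map_comap_eq_self_of_surjective hπs] at h1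
      rw [← h1, hker]
      exact Cores.odd_card_oddCore.mul hOodd)
    rw [eq_bot_iff]
    intro q hq
    obtain ⟨c, rfl⟩ := hπs q
    exact MonoidHom.mem_ker.1 (hker.symm ▸ h1 hq)
  obtain ⟨F, _, _, hodd, ⟨e⟩⟩ := S1240.result S (Or.inl hS) (index_ne_two hna) hone t ht
  obtain ⟨eM⟩ : Nonempty (C ⧸ O ≃* S3304.Model48) := model_of_sd TH hTH hOH _ hodd e (π tc) (π uc)
    (hinv tc htc) hzc (hinv uc huc) hune (mem_map_of_mem π huT) hcu
  obtain ⟨eG⟩ := S3304.gl_model
  let eq0 : C ⧸ O ≃* M := (eM.trans eG.symm).trans equivGL.symm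
  let ψ : C →* M := eq0.toMonoidHom.comp π
  have hψk : ψ.ker = O := by
    rw [show ψ.ker = π.ker from MonoidHom.ker_mulEquiv_comp π eq0, hker]
  have hψs : Function.Surjective ψ := eq0.surjective.comp hπs
  have hψt : ψ tc = zc := by
    have h1 : ∀ a : M, ψ tc * a = a * ψ tc := fun a => by
      obtain ⟨q, rfl⟩ := eq0.surjective a
      show eq0 (π tc) * eq0 q = eq0 q * eq0 (π tc)
      rw [← map_mul, ← map_mul, hzc q]
    rcases zc_unique_center _ h1 with h | h
    · have h2 := hinv tc htc
      rw [(MulEquiv.map_eq_one_iff eq0).1 h, orderOf_one] at h2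
      omega
    · exact h
  have hur : SemiCore.isRefl (ψ uc) := by
    refine ⟨by rw [← map_mul, H39.mul_self_of_orderOf_eq_two huc, map_one], fun h => ?_, fun h => ?_⟩
    · have h2 := hinv uc huc
      rw [(MulEquiv.map_eq_one_iff eq0).1 h, orderOf_one] at h2
      omega
    · exact hune (eq0.injective (h.trans hψt.symm))
  -- the involution inverts the core
  have hinvert : ∀ o ∈ O, uc * o * uc⁻¹ = o⁻¹ := by
    let φ : O →* O := ((MulAut.conjNormal uc : MulAut O) : O →* O)
    have hφ : MonoidHom.FixedPointFree φ := by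
      intro o ho
      have h1 : (uc * (o : C) * uc⁻¹) = (o : C) := by
        have := congrArg Subtype.val ho
        rwa [show φ o = MulAut.conjNormal uc o from rfl, MulAut.conjNormal_apply] at this
      have hmem : (o : C) ∈ centralizer ({uc} : Set C) :=
        mem_centralizer_singleton_iff.2 (mul_inv_eq_iff_eq_mul.1 h1).symm
      have hd : orderOf o ∣ Nat.gcd 4 (Nat.card O) := Nat.dvd_gcd
        (by rw [← hCu, ← Subgroup.orderOf_coe, ← Subgroup.orderOf_mk _ hmem]
            exact orderOf_dvd_natCard _)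
        (orderOf_dvd_natCard _)
      rw [show Nat.gcd 4 (Nat.card O) = 1 from ((Nat.coprime_two_left.2 hOodd).pow_left 2 :)] at hd
      exact orderOf_eq_one_iff.1 (Nat.dvd_one.1 hd)
    have h2 : Function.Involutive φ := fun o => Subtype.ext (by
      show uc * (uc * (o : C) * uc⁻¹) * uc⁻¹ = o
      rw [H39.inv_eq_of_orderOf_eq_two huc, ← mul_assoc, ← mul_assoc,
        H39.mul_self_of_orderOf_eq_two huc, one_mul, mul_assoc,
        H39.mul_self_of_orderOf_eq_two huc, mul_one])
    intro o ho
    have := congrArg Subtype.val (congrFun (hφ.coe_eq_inv_of_involutive h2) ⟨o, ho⟩)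
    exact this
  let D : SemiCore.Core G :=
    { t := t
      order_t := ht
      π := ψ
      surj := hψs
      π_t := fun _ => hψt
      odd_ker := by rw [hψk]; exact hOodd
      refl := fun c hc' => by
        have key : ∀ r : M, SemiCore.isRefl r → ∃ h : M, h * rf * h⁻¹ = r := fun r hr =>
          ((invol r hr.1).resolve_left hr.2.1).resolve_left hr.2.2
        obtain ⟨a, ha⟩ := key _ hc'
        obtain ⟨b, hb⟩ := key _ hur
        obtain ⟨k, hk⟩ := hψs (a * b⁻¹)
        set d := k⁻¹ * c * k with hd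
        have hd' : ψ d = ψ uc := by
          rw [hd, map_mul, map_mul, map_inv, hk, ← ha, ← hb]
          group
        have ho : uc⁻¹ * d ∈ O := by
          rw [← hψk, MonoidHom.mem_ker, map_mul, map_inv, hd', inv_mul_cancel]
        have h1 := hinvert _ ho
        set o := uc⁻¹ * d
        have hdd : d * d = 1 := by
          rw [show d = uc * o by simp [o], show uc * o * (uc * o) = (uc * o * uc⁻¹) * (uc * uc) * o by group,
            h1, H39.mul_self_of_orderOf_eq_two huc, mul_one, inv_mul_cancel]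
        have hcc : c * c = 1 := by
          rw [show c * c = k * (d * d) * k⁻¹ by rw [hd]; group, hdd, mul_one, mul_inv_cancel]
        exact congrArg Subtype.val hcc }
  exact D.recognition fun v hv => hone t v ht hv

end Cfsg.Agent.H70.SubThree
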