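import Cfsg.Agent.H70.SubThree.Basic
import Mathlib.GroupTheory.GroupAction.Primitive

/-!
# From the action to the subgroup data
-/

set_option autoImplicit false
set_option linter.style.haveILetI false

namespace Cfsg.Agent.H70.SubThree

open Subgroup MulAction
open scoped Pointwise

universe u

/-- Moving a subgroup of `A` by conjugation. -/
def Pair {G : Type u} [Group G] (A : Subgroup G) : Prop :=
  ∃ D : Subgroup G, D ≤ A ∧ 3 * Nat.card D = Nat.card A ∧
    ((∃ k : ℕ, Nat.card D = 2 ^ k) → ∃ n ∈ normalizer (D : Set G), n ∉ A)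

theorem setup {G : Type u} {Ω : Type*} [Group G] [Finite G] [MulAction G Ω] [FaithfulSMul G Ω]
    [Finite Ω] (hsol : ¬ Group.IsSolvable G) (hprim : IsPreprimitive G Ω) (a b : Ω)
    (h3 : Nat.card (orbit (stabilizer G a) b) = 3)
    (hA : Group.IsSolvable (stabilizer G a)) :
    Prim (stabilizer G a) ∧ Pair (stabilizer G a) := by
  classical
  haveI := hprim
  haveI : IsPretransitive G Ω := hprim.toIsPretransitive
  haveI : Fact (Nat.Prime 2) := ⟨Nat.prime_two⟩
  have hab : b ≠ a := by
    rintro rfl
    have : orbit (stabilizer G b) b = {b} := Set.eq_singleton_iff_unique_mem.2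
      ⟨mem_orbit_self b, by rintro x ⟨g, rfl⟩; exact g.2⟩
    rw [this] at h3
    simp at h3
  haveI : Nontrivial Ω := ⟨⟨b, a, hab⟩⟩
  refine ⟨⟨(isCoatom_stabilizer_iff_preprimitive (G := G) a).2 hprim, fun K hK hKA => ?_, hA, hsol⟩, ?_⟩
  · haveI := hK
    rw [eq_bot_iff]
    intro k hk
    refine mem_bot.2 (FaithfulSMul.eq_of_smul_eq_smul fun ω : Ω => ?_)
    obtain ⟨g, rfl⟩ := exists_smul_eq G a ω
    have h1 : (g⁻¹ * k * g) • a = a :=
      hKA (by simpa using Normal.conj_mem hK k hk g⁻¹)
    rw [one_smul, ← mul_smul, show k * g = g * (g⁻¹ * k * g) by group, mul_smul, h1]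
  · set D := (stabilizer (stabilizer G a) b).map (stabilizer G a).subtype with hD
    refine ⟨D, map_subtype_le _, ?_, ?_⟩
    · rw [hD, card_subtype, mul_comm, ← h3,
        Nat.card_congr (orbitEquivQuotientStabilizer (stabilizer G a) b)]
      exact (stabilizer (stabilizer G a) b).card_mul_index
    · rintro ⟨k, hk⟩
      obtain ⟨g, hg⟩ := exists_smul_eq G a b
      set A := stabilizer G a with hAdef
      have hDb : ∀ d ∈ D, g⁻¹ * d * g ∈ A := by
        intro d hd
        obtain ⟨⟨d, hdA⟩, hd', rfl⟩ := hd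
        have hd'' : d • b = b := hd'
        show (g⁻¹ * d * g) • a = a
        rw [mul_smul, mul_smul, hg, hd'', ← hg, inv_smul_smul]
      let c : G →* G := (MulAut.conj g⁻¹).toMonoidHom
      have hD1 : D.map c ≤ A := by
        rintro _ ⟨d, hd, rfl⟩
        simpa [c] using hDb d hd
      have hcard : Nat.card (D.map c) = Nat.card D :=
        card_map_of_injective (MulAut.conj g⁻¹).injective
      have hA3 : 3 * Nat.card D = Nat.card A := by
        rw [hD, card_subtype, mul_comm, ← h3,
          Nat.card_congr (orbitEquivQuotientStabilizer (stabilizer G a) b)]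
        exact (stabilizer (stabilizer G a) b).card_mul_index
      have hmk : ∀ E : Subgroup G, E ≤ A → Nat.card E = 2 ^ k →
          ∃ P : Sylow 2 A, (P : Subgroup A) = E.subgroupOf A := by
        intro E hE hEc
        refine ⟨Sylow.ofCard (E.subgroupOf A) ?_, rfl⟩
        rw [Nat.card_congr (subgroupOfEquivOfLe hE).toEquiv, hEc, ← hA3, hk,
          Nat.factorization_mul (by norm_num) (by positivity), Finsupp.add_apply,
          Nat.Prime.factorization_pow Nat.prime_two, Finsupp.single_eq_same,
          Nat.factorization_eq_zero_of_not_dvd (show ¬ 2 ∣ 3 by norm_num), zero_add]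
      obtain ⟨P, hP⟩ := hmk D (map_subtype_le _) hk
      obtain ⟨Q, hQ⟩ := hmk _ hD1 (hcard.trans hk)
      obtain ⟨h, hh⟩ := exists_smul_eq A Q P
      refine ⟨(h : G) * g⁻¹, mem_normalizer_fintype fun d hd => ?_, fun hn => hab ?_⟩
      · have h1 : (⟨g⁻¹ * d * g, hDb d hd⟩ : A) ∈ (Q : Subgroup A) := by
          rw [hQ, mem_subgroupOf]
          exact ⟨d, hd, by simp [c]⟩
        have h2 := smul_mem_pointwise_smul _ (MulAut.conj h) (Q : Subgroup A) h1
        have h3' : h * (⟨g⁻¹ * d * g, hDb d hd⟩ : A) * h⁻¹ ∈ (P : Subgroup A) := by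
          rw [← hh]
          exact h2
        rw [hP, mem_subgroupOf] at h3'
        simpa [mul_assoc] using h3'
      · have : g⁻¹ ∈ A := by simpa using A.mul_mem (A.inv_mem h.2) hn
        have hga : g • a = a := by
          have h4 := A.inv_mem this
          rw [inv_inv] at h4
          exact h4
        rw [← hg, hga]

end Cfsg.Agent.H70.SubThree
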