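import Cfsg.Agent.H70.SubThree.Basic
import Cfsg.Agent.S3331
import Cfsg.Agent.S1008
import Cfsg.Agent.Linear.Order

/-!
# Stabiliser of order three or six
-/

set_option autoImplicit false
set_option linter.style.haveILetI false

namespace Cfsg.Agent.H70.SubThree

open Subgroup

universe u

variable {G : Type u} [Group G] [Finite G]

theorem perm_three_centralizer : ∀ g : Equiv.Perm (Fin 3),
    (∀ x, Equiv.Perm.sign x = 1 → g * x = x * g) → Equiv.Perm.sign g = 1 := by decide +kernel

theorem exists_three {A : Subgroup G} (h : Prim A)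
    (hA : Nat.card A = 3 ∨ Nonempty (A ≃* Equiv.Perm (Fin 3))) :
    ∃ X : Subgroup G, Nat.card X = 3 ∧ centralizer (X : Set G) = X := by
  suffices hs : ∃ X : Subgroup G, X ≤ A ∧ Nat.card X = 3 ∧ (∀ a ∈ A, ∀ k ∈ X, a * k * a⁻¹ ∈ X) ∧
      (∀ a ∈ A, (∀ k ∈ X, a * k = k * a) → a ∈ X) by
    obtain ⟨X, hXA, hX, hn, hc⟩ := hs
    refine ⟨X, hX, le_antisymm (fun g hg => ?_) ?_⟩
    · have hgA : g ∈ A := by
        rw [← h.normalizer_eq (fun e => by rw [e, card_bot] at hX; omega) hXA hn]
        exact centralizer_le_normalizer _ hg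
      exact hc g hgA fun k hk => (mem_centralizer_iff.1 hg k hk).symm
    · haveI : Fact (Nat.Prime 3) := ⟨Nat.prime_three⟩
      haveI : IsCyclic X := isCyclic_of_prime_card hX
      intro x hx
      refine mem_centralizer_iff.2 fun k hk => ?_
      obtain ⟨c, hc⟩ := IsCyclic.exists_generator (α := X)
      obtain ⟨i, hi⟩ := mem_zpowers_iff.1 (hc ⟨x, hx⟩)
      obtain ⟨j, hj⟩ := mem_zpowers_iff.1 (hc ⟨k, hk⟩)
      have := congrArg Subtype.val (zpow_mul_comm c j i)
      rw [hi, hj] at this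
      exact this
  rcases hA with hA | ⟨⟨e⟩⟩
  · exact ⟨A, le_rfl, hA, fun a ha k hk => mul_mem (mul_mem ha hk) (inv_mem ha), fun a ha _ => ha⟩
  · let ι : Equiv.Perm (Fin 3) →* G := A.subtype.comp e.symm.toMonoidHom
    have hι : Function.Injective ι := A.subtype_injective.comp e.symm.injective
    have hιA : ∀ a : A, ι (e a) = a := fun a => congrArg Subtype.val (e.symm_apply_apply a)
    refine ⟨(alternatingGroup (Fin 3)).map ι, ?_, ?_, ?_, ?_⟩
    · rintro _ ⟨x, -, rfl⟩
      exact (e.symm x).2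
    · rw [card_map_of_injective hι, nat_card_alternatingGroup, Nat.card_fin]
      rfl
    · rintro a ha _ ⟨x, hx, rfl⟩
      refine ⟨e ⟨a, ha⟩ * x * (e ⟨a, ha⟩)⁻¹, Normal.conj_mem inferInstance x hx _, ?_⟩
      rw [map_mul, map_mul, map_inv, hιA]
    · intro a ha hk
      refine ⟨e ⟨a, ha⟩, Equiv.Perm.mem_alternatingGroup.2 (perm_three_centralizer _ fun x hx => hι ?_),
        hιA _⟩
      rw [map_mul, map_mul, hιA]
      exact hk _ ⟨x, Equiv.Perm.mem_alternatingGroup.2 hx, rfl⟩

/-- The stabiliser is cyclic of order three or symmetric of degree three. -/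
theorem small {A : Subgroup G} (h : Prim A)
    (hA : Nat.card A = 3 ∨ Nonempty (A ≃* Equiv.Perm (Fin 3))) :
    Nonempty (G ≃* alternatingGroup (Fin 5)) := by
  haveI : Fact (Nat.Prime 2) := ⟨Nat.prime_two⟩
  obtain ⟨X, hX, hC⟩ := exists_three h hA
  rcases S3331.result X hX hC with ⟨N, hN, hnil, -, hq⟩ | ⟨N, hN, hab, -, ⟨f⟩⟩ | ⟨⟨f⟩⟩
  · exfalso
    haveI := hN
    haveI := hnil
    refine h.insol (H84.HallNum.isSolvable_of_normal N inferInstance ?_)
    rcases hq with hq | ⟨⟨f⟩⟩
    · exact H84.HallNum.isSolvable_of_not_four_dvd (by rw [hq]; norm_num)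
    · exact H84.HallNum.isSolvable_of_not_four_dvd
        (by rw [Nat.card_congr f.toEquiv, Nat.card_perm, Nat.card_fin]; decide)
  · haveI := hN
    have hNb : N = ⊥ := by
      by_contra hne
      refine h.not_solvable hne ?_
      haveI := hab
      exact Group.isSolvable_of_comm fun a b => mul_comm' a b
    exact ⟨((QuotientGroup.quotientBot (G := G)).symm.trans
      (QuotientGroup.quotientMulEquivOfEq hNb.symm)).trans f⟩
  · exfalso
    haveI : Fact (Nat.Prime 7) := ⟨by norm_num⟩
    haveI : IsSimpleGroup (Matrix.ProjectiveSpecialLinearGroup (Fin 2) (ZMod 7)) :=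
      Matrix.ProjectiveSpecialLinearGroup.rank_two_simple (by rw [Nat.card_zmod]; norm_num)
    haveI : Nontrivial G := f.toEquiv.nontrivial
    haveI : IsSimpleGroup G := IsSimpleGroup.isSimpleGroup_of_surjective f.symm.toMonoidHom f.symm.surjective
    have h168 : Nat.card G = 168 := by
      have h1 := Linear.card_PSL_two_mul (F := ZMod 7)
      rw [ZMod.card] at h1
      rw [Nat.card_congr f.toEquiv]
      rw [show Nat.gcd 2 (7 - 1) = 2 from rfl] at h1
      norm_num at h1
      rw [Nat.card_eq_fintype_card]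
      omega
    have hA6 : Nat.card A = 3 ∨ Nat.card A = 6 := hA.imp id fun ⟨e⟩ => by
      rw [Nat.card_congr e.toEquiv, Nat.card_perm, Nat.card_fin]; rfl
    rcases (S1008.result h168).1 A h.max with he | ⟨hc, -⟩
    · obtain ⟨e⟩ := he
      have : Nat.card A = 24 := by rw [Nat.card_congr e.toEquiv, Nat.card_perm, Nat.card_fin]; rfl
      omega
    · omega

end Cfsg.Agent.H70.SubThree
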