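import Cfsg.Agent.H70.SubThree.Basic
import Cfsg.Agent.H19.Cubic.SmallCases
import Cfsg.Agent.H39.SemiDihedral
import Cfsg.Agent.PGroups.CyclicMaximal
import Cfsg.Agent.S1853
import Cfsg.Agent.S3224
import Cfsg.Agent.S0483

/-!
# Simple groups with dihedral or semidihedral Sylow 2-subgroups
-/

set_option autoImplicit false
set_option linter.style.haveILetI false
set_option linter.unusedSectionVars false

namespace Cfsg.Agent.H70.SubThree

open Subgroup
open scoped Pointwise

universe u

variable {G : Type u} [Group G] [Finite G]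

/-- The two-group `S` is dihedral or semidihedral. -/
def MaxClass (S : Type u) [Group S] : Prop :=
  (∃ n : ℕ, Nonempty (S ≃* DihedralGroup n)) ∨ Cfsg.IsQuasiDihedral S

theorem MaxClass.exists_cyclic {S : Type u} [Group S] [Finite S] (h : MaxClass S) :
    ∃ C : Subgroup S, IsCyclic C ∧ C.index = 2 := by
  rcases h with ⟨n, ⟨e⟩⟩ | h
  · have hn : n ≠ 0 := by
      rintro rfl
      have := Nat.card_congr e.toEquiv
      rw [DihedralGroup.nat_card] at this
      exact Nat.card_pos.ne' this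
    haveI : NeZero n := ⟨hn⟩
    refine ⟨zpowers (e.symm (DihedralGroup.r 1)), inferInstance, ?_⟩
    have h1 := (zpowers (e.symm (DihedralGroup.r (1 : ZMod n)))).card_mul_index
    rw [Nat.card_zpowers, MulEquiv.orderOf_eq, DihedralGroup.orderOf_r_one,
      Nat.card_congr e.toEquiv, DihedralGroup.nat_card, mul_comm 2 n] at h1
    exact Nat.eq_of_mul_eq_mul_left (Nat.pos_of_ne_zero hn) h1
  · obtain ⟨m, x, y, hxy⟩ := H39.exists_sdGen h
    exact ⟨zpowers x, inferInstance, hxy.index_zpowers⟩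

theorem hom_eq_one [IsSimpleGroup G] (hna : ¬ IsMulCommutative G) {A : Type*} [CommGroup A]
    (f : G →* A) : f = 1 := by
  rcases f.normal_ker.eq_bot_or_eq_top with h | h
  · refine absurd ⟨⟨fun a b => ?_⟩⟩ hna
    exact (f.ker_eq_bot_iff.1 h) (by rw [map_mul, map_mul, mul_comm])
  · exact MonoidHom.ext fun x => f.mem_ker.1 (h ▸ mem_top x)

theorem index_ne_two [IsSimpleGroup G] (hna : ¬ IsMulCommutative G) (N : Subgroup G) :
    N.index ≠ 2 := by
  intro h
  obtain ⟨ψ, rfl⟩ := H19.Cubic.exists_hom_of_index_two N h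
  rw [hom_eq_one hna ψ, MonoidHom.ker_one, index_top] at h
  omega

/-- One class of involutions when a Sylow 2-subgroup has a cyclic subgroup of index two. -/
theorem one_class [IsSimpleGroup G] (hna : ¬ IsMulCommutative G) (P : Sylow 2 G)
    (hP : ∃ C : Subgroup ↥(P : Subgroup G), IsCyclic C ∧ C.index = 2) :
    ∀ u v : G, orderOf u = 2 → orderOf v = 2 → IsConj u v := by
  haveI : Fact (Nat.Prime 2) := ⟨Nat.prime_two⟩
  obtain ⟨C, hC, hidx⟩ := hP
  obtain ⟨φ, hφ⟩ := H19.Cubic.exists_hom_of_index_two C hidx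
  have key : ∀ v : G, orderOf v = 2 → ∃ w : ↥(P : Subgroup G), w ∈ C ∧ IsConj v (w : G) := by
    intro v hv
    obtain ⟨Q, hQ⟩ := (IsPGroup.of_card (p := 2) (n := 1)
      (by rw [Nat.card_zpowers, hv, pow_one] : Nat.card ↥(zpowers v) = 2 ^ 1)).exists_le_sylow
    obtain ⟨a, ha⟩ := MulAction.exists_smul_eq G Q P
    have hv' : a * v * a⁻¹ ∈ (P : Subgroup G) := by
      have := smul_mem_pointwise_smul v (MulAut.conj a) (Q : Subgroup G) (hQ (mem_zpowers v))
      rw [MulAut.smul_def, MulAut.conj_apply] at this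
      rw [← ha]
      exact this
    have hv2 : orderOf (a * v * a⁻¹) = 2 := by rw [← hv]; exact H39.orderOf_conj a v
    by_cases hin : φ ⟨_, hv'⟩ = 1
    · exact ⟨⟨_, hv'⟩, hφ ▸ φ.mem_ker.2 hin, isConj_iff.2 ⟨a, rfl⟩⟩
    · obtain ⟨g, -, h, h'⟩ := S1853.exists_conj_mem P φ (fun f => hom_eq_one hna f) _ hv2 hv' hin
        (zpowers (a * v * a⁻¹))
        (IsPGroup.of_card (p := 2) (n := 1) (by rw [Nat.card_zpowers, hv2, pow_one]))
        (mem_zpowers _)
        (zpowers_le.2 (mem_centralizer_singleton_iff.2 rfl))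
      refine ⟨⟨_, h⟩, ?_,
        isConj_iff.2 ⟨g⁻¹ * a, by simp [mul_inv_rev, mul_assoc]⟩⟩
      rw [← hφ]
      exact φ.mem_ker.2 h'
  intro u v hu hv
  obtain ⟨w, hw, hwu⟩ := key u hu
  obtain ⟨w', hw', hwv⟩ := key v hv
  have hord : ∀ {x : G} {y : ↥(P : Subgroup G)}, orderOf x = 2 → IsConj x (y : G) →
      y ^ 2 = 1 ∧ y ≠ 1 := by
    intro x y hx hc
    obtain ⟨c, hc⟩ := isConj_iff.1 hc
    have hy : orderOf y = 2 := by rw [← Subgroup.orderOf_coe, ← hc, ← hx]; exact H39.orderOf_conj c x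
    refine ⟨?_, fun h => by rw [h, orderOf_one] at hy; omega⟩
    have := pow_orderOf_eq_one y
    rwa [hy] at this
  have e : w = w' := PGroups.eq_of_sq_eq_one hC hw hw' (hord hu hwu).1 (hord hv hwv).1
    (hord hu hwu).2 (hord hv hwv).2
  rw [← congrArg Subtype.val e] at hwv
  exact hwu.trans hwv.symm

/-- The Sylow subgroup above a Sylow subgroup of a centraliser. -/
theorem card_inf_centralizer (P : Sylow 2 G) {V : Subgroup G} (hVP : V ≤ (P : Subgroup G)) {u : G}
    (hV : V ≤ centralizer ({u} : Set G))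
    (hcard : Nat.card V = 2 ^ (Nat.card ↥(centralizer ({u} : Set G))).factorization 2) :
    (P : Subgroup G) ⊓ centralizer ({u} : Set G) = V := by
  haveI : Fact (Nat.Prime 2) := ⟨Nat.prime_two⟩
  refine (eq_of_le_of_card_ge (le_inf hVP hV) ?_).symm
  obtain ⟨k, hk⟩ := IsPGroup.iff_card.1 (P.isPGroup'.to_le (inf_le_left (b := centralizer ({u} : Set G))))
  have h1 := card_dvd_of_le (inf_le_right (a := (P : Subgroup G)) (b := centralizer ({u} : Set G)))
  rw [hk, Nat.prime_two.pow_dvd_iff_le_factorization Nat.card_pos.ne'] at h1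
  rw [hk, hcard]
  exact Nat.pow_le_pow_right two_pos h1

/-- A small centraliser of an involution in a Sylow subgroup of order at least eight. -/
theorem maxClass_of_small (P : Sylow 2 G) {u : G} (hu : orderOf u = 2) (huP : u ∈ (P : Subgroup G))
    (hc : Nat.card ↥((P : Subgroup G) ⊓ centralizer ({u} : Set G)) = 4)
    (h8 : 8 ≤ Nat.card ↥(P : Subgroup G)) : MaxClass ↥(P : Subgroup G) := by
  have h1 : Nat.card ↥(centralizer ({(⟨u, huP⟩ : ↥(P : Subgroup G))} : Set ↥(P : Subgroup G))) = 4 := by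
    rw [← hc, inf_comm,
      ← Nat.card_congr (subgroupOfEquivOfLe (inf_le_right (a := centralizer ({u} : Set G)))).toEquiv]
    refine Nat.card_congr (MulEquiv.subgroupCongr ?_).toEquiv
    ext x
    simp only [mem_subgroupOf, mem_inf, mem_centralizer_singleton_iff, SetLike.coe_mem, and_true]
    exact Subtype.ext_iff
  rcases S3224.result P.isPGroup' _ (by rwa [← Subgroup.orderOf_coe]) h1 with h | h | h
  · exact Or.inl h
  · exact Or.inr h
  · omega

theorem isPerfect [IsSimpleGroup G] (hna : ¬ IsMulCommutative G) : Group.IsPerfect G := by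
  refine ⟨?_⟩
  rcases (Subgroup.commutator_normal (⊤ : Subgroup G) ⊤).eq_bot_or_eq_top with h | h
  · refine absurd ⟨⟨fun a b => ?_⟩⟩ hna
    have := commutator_mem_commutator (mem_top a) (mem_top b)
    rw [h, mem_bot, commutatorElement_eq_one_iff_mul_comm] at this
    exact this
  · exact h

theorem oddCore_eq_bot [IsSimpleGroup G] (hev : Even (Nat.card G)) : Cfsg.oddCore G = ⊥ := by
  rcases (inferInstance : (Cfsg.oddCore G).Normal).eq_bot_or_eq_top with h | h
  · exact h
  · have := Cores.odd_card_oddCore (G := G)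
    rw [h, card_top] at this
    exact absurd hev (Nat.not_even_iff_odd.2 this)

/-- A simple group with dihedral Sylow 2-subgroups. -/
theorem dihedral_simple [IsSimpleGroup G] (hna : ¬ IsMulCommutative G) (P : Sylow 2 G) {n : ℕ}
    (hn : 2 ≤ n) (hP : Nonempty ((P : Subgroup G) ≃* DihedralGroup n)) :
    (∃ (F : Type) (_ : Field F) (_ : Fintype F), Odd (Fintype.card F) ∧ 3 < Fintype.card F ∧
        Nonempty (G ≃* Matrix.ProjectiveSpecialLinearGroup (Fin 2) F)) ∨
      Nonempty (G ≃* alternatingGroup (Fin 7)) := by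
  haveI := isPerfect (G := G) hna
  have hev : Even (Nat.card G) := by
    obtain ⟨e⟩ := hP
    have h1 := (P : Subgroup G).card_subgroup_dvd_card
    rw [Nat.card_congr e.toEquiv, DihedralGroup.nat_card] at h1
    exact even_iff_two_dvd.2 (dvd_trans (dvd_mul_right 2 n) h1)
  let e0 : G ⧸ Cfsg.oddCore G ≃* G :=
    (QuotientGroup.quotientMulEquivOfEq (oddCore_eq_bot hev)).trans QuotientGroup.quotientBot
  rcases S0483.result P n hn hP with ⟨F, i1, i2, h1, h3, hf⟩ | hf
  · exact Or.inl ⟨F, i1, i2, h1, h3, hf.map e0.symm.trans⟩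
  · exact Or.inr (hf.map e0.symm.trans)

end Cfsg.Agent.H70.SubThree
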